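import Cfsg.Agent.SB.Exc.Card
import Cfsg.Agent.DS.Ex.ExtU
import Cfsg.Prelude.Def_KGroupFacts
import Cfsg.Agent.DS.Nt.Defs_m3
import Cfsg.Agent.DL.Ex.Tw
import Cfsg.Agent.BpExc.AsmN_m3
import Cfsg.Agent.S1062
import Cfsg.Agent.S1063
import Cfsg.Agent.S1064
import Cfsg.Agent.S1065
import Cfsg.Agent.S1066
import Cfsg.Agent.S2122
import Cfsg.Agent.S2123
import Cfsg.Agent.S2124
import Cfsg.Agent.S2125
import Cfsg.Agent.S2130
import Cfsg.Agent.SB.Low.TabD1_m3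
import Cfsg.Agent.SB.Tor.Refl_m3
import Cfsg.Agent.Cam.Ex.Chi_m3
import Cfsg.Agent.H296.FFourFix
import Cfsg.Agent.Lib.FinFast
import Cfsg.Agent.FastGrp
import Cfsg.Agent.Prune
set_option linter.all false

section
prune_inst 0x7ffdfffcffb8fddfffff7e7ffed9dffc3bd3dfffe6dff9437fe8e3ff1bdf030829e5fbad8de0d2fd1ed6e2b410387853ffffefffeb6fdc7ffffd5ff41ffbee5ff7ffb50c51d5ac341ffc6fff9bf17f8e7f3fffffffffffffffffffffffffffbeffffffffffff

-- part: SB/Exc/Frm/Main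
section
prune_inst 0x1000000000000000000040003c0282000090006b80014100024006802d4000000720008022000000220800300000000000000000000000000400400000000080100020000000000006008004000000000000000000000000000000000000000000000
set_option linter.all false
open scoped Cfsg.Agent.FastGrp

-- part: SB/Exc/Frm/Pre
section
/-!
# S5765, exceptional groups: frames from two commuting automorphisms `τ`, `ψ` (helper56)

`τ ^ 2 = 1`, `ψ ^ κ` is the `p`-Frobenius map, `σ = τ ^ ε ψ ^ (κ e)`, every automorphism of the finite group is induced by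
`conj y * τ ^ i * ψ ^ n`.  The kernel of `π` is computed by counting against the order of the outer automorphism group.

* `Sm` : automorphisms which permute the root groups and normalise the torus;
* `Dg` : the degree;
* `Pre.hasFrm`.
-/

set_option autoImplicit false
set_option linter.unusedSectionVars false

namespace Cfsg.Agent.SB.Exc.Frm

open CoxeterSystem Cfsg Cfsg.Lie Cfsg.Lie.ChevalleyDatum
open Cfsg.Agent.ChevalleyStructure Cfsg.Agent.ChevalleyStructure.Elts Cfsg.Agent.ChevalleyStructure.CoxeterGeom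
  Cfsg.Agent.ChevalleyStructure.CoxeterGeomTypes
open Cfsg.Agent.Tits.Roots Cfsg.Agent.Tits.Core Cfsg.Agent.Nodes Cfsg.Agent.Nodes.Reps Cfsg.Agent.Nodes.BNOf
  Cfsg.Agent.Nodes.RGDChev Cfsg.Agent.Nodes.Bruhat
open Cfsg.Agent.KFacts.RgdField Cfsg.Agent.KFacts.RgdChevCoord
open Cfsg.Agent.BpExc Cfsg.Agent.BpExc.TorCent Cfsg.Agent.BpExc.TorChev Cfsg.Agent.BpExc.Tow
  Cfsg.Agent.BpExc.TowChev Cfsg.Agent.BpExc.Fr Cfsg.Agent.BpExc.LangFr Cfsg.Agent.BpExc.FamUntw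
  Cfsg.Agent.BpExc.FamInst
open Cfsg.Agent.H469.Exc Cfsg.Agent.H316.U6 Cfsg.Agent.H129.TorusChar Cfsg.Agent.DS.Ex

/-- a relation which is total, injective and whose target is not larger than the source is a function -/
theorem uniq_of_card {A P : Type*} [Finite P] (R : A → P → Prop) (hex : ∀ a, ∃ x, R a x)
    (hinj : ∀ a a' x, R a x → R a' x → a = a') (hc : Nat.card P ≤ Nat.card A) {a : A} {x x' : P} (h : R a x)
    (h' : R a x') : x = x' := by
  classical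
  choose f hf using hex
  have h1 : ∀ b, R b (Function.update f a x b) := by
    intro b
    by_cases hb : b = a
    · rw [hb, Function.update_self]; exact h
    · rw [Function.update_of_ne hb]; exact hf b
  have h2 : Function.Injective (Function.update f a x) := fun b b' e => hinj b b' _ (h1 b) (e ▸ h1 b')
  obtain ⟨b, hb⟩ := (h2.bijective_of_nat_card_le hc).2 x'
  have h3 : b = a := hinj b a x' (hb ▸ h1 b) h'
  rw [← hb, h3, Function.update_self]

/-! ### the degree -/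

section Deg

variable {Y : Type} [Group Y] {τ ψ : MulAut Y}

/-- `β = τ ^ i * ψ ^ n` -/
def Bt (τ ψ β : MulAut Y) (n : ℤ) : Prop := β = ψ ^ n ∨ β = τ * ψ ^ n

/-- `φ = conj y * τ ^ i * ψ ^ n` -/
def Dg (τ ψ φ : MulAut Y) (n : ℤ) : Prop := ∃ (y : Y) (β : MulAut Y), Bt τ ψ β n ∧ φ = MulAut.conj y * β

theorem mul_conj' (y : Y) (β : MulAut Y) : β * MulAut.conj y = MulAut.conj (β y) * β := by
  apply MulEquiv.ext
  intro x
  show β (y * x * y⁻¹) = β y * β x * (β y)⁻¹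
  rw [map_mul, map_mul, map_inv]

theorem Bt.dg {β : MulAut Y} {n : ℤ} (h : Bt τ ψ β n) : Dg τ ψ β n := ⟨1, β, h, by rw [map_one, one_mul]⟩

theorem bt_one : Bt τ ψ 1 0 := Or.inl (zpow_zero ψ).symm

variable (h2 : τ * τ = 1) (hc : τ * ψ = ψ * τ)
include h2 hc

theorem Bt.mul {β β' : MulAut Y} {n n' : ℤ} (h : Bt τ ψ β n) (h' : Bt τ ψ β' n') : Bt τ ψ (β * β') (n + n') := by
  have h1 : ψ ^ n * τ = τ * ψ ^ n := ((show Commute τ ψ from hc).zpow_right n).eq.symm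
  rcases h with rfl | rfl <;> rcases h' with rfl | rfl
  · exact Or.inl (zpow_add ψ n n').symm
  · exact Or.inr (by rw [← mul_assoc, h1, zpow_add, mul_assoc])
  · exact Or.inr (by rw [zpow_add, mul_assoc])
  · exact Or.inl (by rw [mul_assoc, ← mul_assoc (ψ ^ n), h1, ← mul_assoc, ← mul_assoc, h2, one_mul, zpow_add])

theorem Bt.inv {β : MulAut Y} {n : ℤ} (h : Bt τ ψ β n) : Bt τ ψ β⁻¹ (-n) := by
  have h1 : ψ ^ (-n) * τ = τ * ψ ^ (-n) := ((show Commute τ ψ from hc).zpow_right (-n)).eq.symm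
  rcases h with rfl | rfl
  · exact Or.inl (zpow_neg ψ n).symm
  · exact Or.inr (by rw [mul_inv_rev, ← zpow_neg, inv_eq_of_mul_eq_one_right h2, h1])

theorem Bt.pow {β : MulAut Y} {n : ℤ} (h : Bt τ ψ β n) (k : ℕ) : Bt τ ψ (β ^ k) (k * n) := by
  induction k with
  | zero => rw [pow_zero, Nat.cast_zero, zero_mul]; exact bt_one
  | succ k ih => rw [pow_succ, Nat.cast_succ, add_mul, one_mul]; exact ih.mul h2 hc h

theorem Bt.zpow {β : MulAut Y} {n : ℤ} (h : Bt τ ψ β n) (k : ℤ) : Bt τ ψ (β ^ k) (k * n) := by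
  obtain ⟨j, rfl | rfl⟩ := Int.eq_nat_or_neg k
  · rw [zpow_natCast]; exact h.pow h2 hc j
  · rw [zpow_neg, zpow_natCast, neg_mul]; exact (h.pow h2 hc j).inv h2 hc

theorem bt_of_mem {β : MulAut Y} (h : β ∈ Subgroup.closure ({τ, ψ} : Set (MulAut Y))) : ∃ n, Bt τ ψ β n := by
  induction h using Subgroup.closure_induction with
  | mem β hβ =>
    rcases hβ with rfl | rfl
    · exact ⟨0, Or.inr (by rw [zpow_zero, mul_one])⟩
    · exact ⟨1, Or.inl (zpow_one _).symm⟩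
  | one => exact ⟨0, bt_one⟩
  | mul β β' _ _ h h' =>
    obtain ⟨n, h⟩ := h
    obtain ⟨n', h'⟩ := h'
    exact ⟨_, h.mul h2 hc h'⟩
  | inv β _ h =>
    obtain ⟨n, h⟩ := h
    exact ⟨_, h.inv h2 hc⟩

theorem Dg.mul {φ φ' : MulAut Y} {n n' : ℤ} (h : Dg τ ψ φ n) (h' : Dg τ ψ φ' n') : Dg τ ψ (φ * φ') (n + n') := by
  obtain ⟨y, β, hβ, rfl⟩ := h
  obtain ⟨y', β', hβ', rfl⟩ := h'
  refine ⟨y * β y', β * β', hβ.mul h2 hc hβ', ?_⟩
  rw [map_mul, mul_assoc, ← mul_assoc β, mul_conj']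
  simp only [mul_assoc]

theorem Dg.inv {φ : MulAut Y} {n : ℤ} (h : Dg τ ψ φ n) : Dg τ ψ φ⁻¹ (-n) := by
  obtain ⟨y, β, hβ, rfl⟩ := h
  exact ⟨β⁻¹ y⁻¹, β⁻¹, hβ.inv h2 hc, by rw [mul_inv_rev, ← map_inv, mul_conj']⟩

theorem Dg.pow {φ : MulAut Y} {n : ℤ} (h : Dg τ ψ φ n) (k : ℕ) : Dg τ ψ (φ ^ k) (k * n) := by
  induction k with
  | zero => rw [pow_zero, Nat.cast_zero, zero_mul]; exact bt_one.dg
  | succ k ih => rw [pow_succ, Nat.cast_succ, add_mul, one_mul]; exact ih.mul h2 hc h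

/-- reduction modulo `σ` -/
theorem Bt.red {σ β : MulAut Y} {N : ℕ} (hN : 0 < N) (hσ : Bt τ ψ σ N) {n : ℤ} (h : Bt τ ψ β n) :
    ∃ (j : Fin N) (k : ℤ), β = ψ ^ (j : ℕ) * σ ^ k ∨ β = τ * ψ ^ (j : ℕ) * σ ^ k := by
  have h1 := h.mul h2 hc ((hσ.zpow h2 hc (n / N)).inv h2 hc)
  have h3 : 0 ≤ n % N := Int.emod_nonneg _ (by omega)
  have h4 : n % N < N := Int.emod_lt_of_pos _ (by omega)
  have h5 : n + -(n / N * N) = ((n % N).toNat : ℕ) := by
    rw [Int.toNat_of_nonneg h3, Int.emod_def]; ring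
  rw [h5] at h1
  refine ⟨⟨(n % N).toNat, by omega⟩, n / N, h1.imp (fun e => ?_) fun e => ?_⟩
  · rw [zpow_natCast] at e
    exact mul_inv_eq_iff_eq_mul.1 e
  · rw [zpow_natCast] at e
    exact mul_inv_eq_iff_eq_mul.1 e

end Deg

/-! ### automorphisms permuting the root groups -/

variable {D : ChevalleyDatum} {l : ℕ} {M : CoxeterMatrix (Fin l)} (hp : IsType D l M) (p : ℕ) [Fact p.Prime]

/-- `β` normalises the torus and permutes the root groups, acting by powers of the Frobenius map -/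
def Sm (β : MulAut (YY D p)) : Prop :=
  (∀ t ∈ TT D (KK p), β t ∈ TT D (KK p)) ∧ ∃ (g : (Fin l → ℤ) → (Fin l → ℤ)) (ex : (Fin l → ℤ) → ℕ),
    (∀ a, IsRoot M.toCoxeterSystem hp.isCartan a → IsRoot M.toCoxeterSystem hp.isCartan (g a)) ∧
    (∀ a, IsRoot M.toCoxeterSystem hp.isCartan a →
      ∃ c : KK p, c ≠ 0 ∧ ∀ u, β (xc hp a u) = xc hp (g a) (c * u ^ p ^ ex a)) ∧
    ∀ b, IsRoot M.toCoxeterSystem hp.isCartan b → ∃ a, IsRoot M.toCoxeterSystem hp.isCartan a ∧ g a = b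

variable {hp p}

theorem sm_of_fr {e : ℕ} {β : MulAut (YY D p)} {g : (Fin l → ℤ) ≃+ (Fin l → ℤ)} (hβ : IsFrob p e β)
    (F : Fr M.toCoxeterSystem hp.isCartan (TT D (KK p)) (XX D l (KK p)) β g) : Sm hp p β :=
  ⟨fun t ht => (F.tor t).2 ht, g, fun _ => e, fun a ha => (F.root a).2 ha, fun _ ha => HX.fr_xc hp _ hβ F ha,
    fun b hb => ⟨g.symm b, (F.root _).1 (by rwa [AddEquiv.apply_symm_apply]), g.apply_symm_apply b⟩⟩

theorem Sm.mul {β β' : MulAut (YY D p)} (h : Sm hp p β) (h' : Sm hp p β') : Sm hp p (β * β') := by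
  obtain ⟨h1, g, ex, h2, h3, h4⟩ := h
  obtain ⟨h1', g', ex', h2', h3', h4'⟩ := h'
  refine ⟨fun t ht => h1 _ (h1' t ht), fun a => g (g' a), fun a => ex' a + ex (g' a), fun a ha => h2 _ (h2' a ha),
    fun a ha => ?_, fun b hb => ?_⟩
  · obtain ⟨c', hc', e'⟩ := h3' a ha
    obtain ⟨c, hc, e⟩ := h3 _ (h2' a ha)
    refine ⟨c * c' ^ p ^ ex (g' a), mul_ne_zero hc (pow_ne_zero _ hc'), fun u => ?_⟩
    rw [MulAut.mul_apply, e', e, mul_pow, pow_add, pow_mul, mul_assoc]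
  · obtain ⟨a, ha, rfl⟩ := h4 b hb
    obtain ⟨a', ha', rfl⟩ := h4' a ha
    exact ⟨a', ha', rfl⟩

theorem Sm.pow {β : MulAut (YY D p)} (h : Sm hp p β) (n : ℕ) : Sm hp p (β ^ n) := by
  induction n with
  | zero => rw [pow_zero]; exact sm_of_fr IsFrob.one Fr.one
  | succ n ih => rw [pow_succ]; exact ih.mul h

theorem Sm.sem {β : MulAut (YY D p)} (h : Sm hp p β) : ∃ g ex Mx, Sem hp p β g ex Mx := by
  obtain ⟨h1, g, ex, h2, h3, h4⟩ := h
  choose b hb hgb using fun i : Fin l => h4 (sr i) (isRoot_sr _ _ i)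
  exact ⟨g, ex, _, h2, h3, DL.Ex.F_tau hp _ h3 h1 hb hgb⟩

include hp in
theorem not_isFrob_one {n : ℕ} (hn : 0 < n) (hl : 0 < l) : ¬ IsFrob p n (1 : MulAut (YY D p)) := by
  intro h
  have h1 := Sig.finite_fixed (locFin p) hn h
  obtain ⟨r, hr, e⟩ := (isRoot_iff hp M.toCoxeterSystem _).1 (isRoot_sr M.toCoxeterSystem hp.isCartan ⟨0, hl⟩)
  have h2 : Finite (KK p) := Finite.of_injective
    (fun u : KK p => (⟨xc hp (vec D l r) u, rfl⟩ : ↥(fixedSubgroup (1 : MulAut (YY D p)))))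
    fun a b hab => xc_inj hp hr (congrArg Subtype.val hab)
  exact not_finite (KK p)

theorem fix_of_ext {q : ℕ} {K : Type} [Group K] {m : MData hp p q K} {A : Subgroup (MulAut (YY D p))} (h : _root_.Cfsg.Agent.DS.Ex.Ext m A)
    {α : MulAut K} {y : YY D p} {β : MulAut (YY D p)} (hβ : β ∈ A) (hy : ∀ x, m.ι (α x) = y * β (m.ι x) * y⁻¹) :
    m.σ y = y := by
  have h1 : ∀ x, (y⁻¹ * m.σ y) * β (m.ι x) = β (m.ι x) * (y⁻¹ * m.σ y) := by
    intro x
    have h3 := congrArg m.σ (hy x)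
    rw [m.fix, hy, map_mul, map_mul, map_inv] at h3
    have h4 : m.σ (β (m.ι x)) = β (m.ι x) := by
      rw [← MulAut.mul_apply, h.comm _ h.mem _ hβ, MulAut.mul_apply, m.fix]
    rw [h4] at h3
    calc y⁻¹ * m.σ y * β (m.ι x) = y⁻¹ * (m.σ y * β (m.ι x) * (m.σ y)⁻¹) * m.σ y := by group
      _ = y⁻¹ * (y * β (m.ι x) * y⁻¹) * m.σ y := by rw [h3]
      _ = _ := by group
  have h5 : β⁻¹ (y⁻¹ * m.σ y) = 1 := h.cent _ fun x => by
    apply β.injective
    rw [map_mul β, map_mul β, MulAut.apply_inv_self]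
    exact h1 x
  have h6 : y⁻¹ * m.σ y = 1 := by
    have := congrArg β h5
    rwa [MulAut.apply_inv_self, map_one] at this
  exact (inv_mul_eq_one.1 h6).symm

theorem card_aut {K : Type} [Group K] (h : ∀ y : K, (∀ x, y * x = x * y) → y = 1) :
    Nat.card (MulAut K) = Nat.card (Out K) * Nat.card K := by
  have h1 : Function.Injective (MulAut.conj : K →* MulAut K) := by
    rw [injective_iff_map_eq_one]
    intro y hy
    refine h y fun x => ?_
    have h2 : y * x * y⁻¹ = x := congrArg (fun β : MulAut K => β x) hy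
    exact mul_inv_eq_iff_eq_mul.1 h2
  rw [Subgroup.card_eq_card_quotient_mul_card_subgroup (Inn K), Nat.card_congr (MonoidHom.ofInjective h1).toEquiv]

/-- **The data from which the frame is built.** -/
structure Pre {q : ℕ} {K : Type} [Group K] (m : MData hp p q K) (τ ψ : MulAut (YY D p)) (κ : ℕ) : Prop where
  pos : 0 < l
  hκ : κ = 1 ∨ (D = chevF4 ∧ p = 2 ∧ κ = 2)
  sq : τ * τ = 1
  comm : τ * ψ = ψ * τ
  pow : ψ ^ κ = phi D (KK p) p 1
  hσ : Bt τ ψ m.σ ((κ * m.e : ℕ) : ℤ)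
  ext : _root_.Cfsg.Agent.DS.Ex.Ext m (Subgroup.closure {τ, ψ})
  frob : IsFrob p 0 τ
  tau : τ = 1 ∨ (D = chevE6 ∧ ∃ (g : (Fin l → ℤ) ≃+ (Fin l → ℤ)) (w : M.Group),
    Fr M.toCoxeterSystem hp.isCartan (TT D (KK p)) (XX D l (KK p)) τ g ∧ ∀ a, g a = -rep M.toCoxeterSystem hp.isCartan w a)
  sm : Sm hp p ψ
  gW : ∃ w : M.Group, (∀ a, m.g a = rep M.toCoxeterSystem hp.isCartan w a) ∨
    (D = chevE6 ∧ ∀ a, m.g a = -rep M.toCoxeterSystem hp.isCartan w a)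
  cnt : (τ = 1 ∧ Nat.card (DL.fix m.σ) * (κ * m.e) ≤ Nat.card (MulAut K)) ∨
    Nat.card (DL.fix m.σ) * (2 * (κ * m.e)) ≤ Nat.card (MulAut K)
  idx : Nat.card (DL.fix m.σ) ≤ dM l * Nat.card K
  ord : ordU l q ≤ dM l * Nat.card K

namespace Pre

variable {q : ℕ} {K : Type} [Group K] {m : MData hp p q K} {τ ψ : MulAut (YY D p)} {κ : ℕ}

theorem congr (P : Pre m τ ψ κ) {K' : Type} [Group K'] (f : K' ≃* K) : Pre (m.congr f) τ ψ κ where
  pos := P.pos
  hκ := P.hκ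
  sq := P.sq
  comm := P.comm
  pow := P.pow
  hσ := P.hσ
  ext := P.ext.congr f
  frob := P.frob
  tau := P.tau
  sm := P.sm
  gW := P.gW
  cnt := by
    rw [Nat.card_congr (MulAut.congr f).toEquiv]
    exact P.cnt
  idx := by
    rw [Nat.card_congr f.toEquiv]
    exact P.idx
  ord := by
    rw [Nat.card_congr f.toEquiv]
    exact P.ord

variable (P : Pre m τ ψ κ)
include P

theorem κ_pos : 0 < κ := by
  rcases P.hκ with h | ⟨-, -, h⟩ <;> omega

theorem fr_tau : ∃ g, Fr M.toCoxeterSystem hp.isCartan (TT D (KK p)) (XX D l (KK p)) τ g := by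
  rcases P.tau with h | ⟨-, g, -, h, -⟩
  · exact ⟨_, h ▸ Fr.one⟩
  · exact ⟨g, h⟩

theorem bt_frob {β : MulAut (YY D p)} {n : ℕ} (h : Bt τ ψ β (κ * n)) :
    IsFrob p n β ∧ ∃ g, Fr M.toCoxeterSystem hp.isCartan (TT D (KK p)) (XX D l (KK p)) β g := by
  have h1 : ψ ^ ((κ : ℤ) * n) = phi D (KK p) p n := by
    rw [← Nat.cast_mul, zpow_natCast, pow_mul, P.pow, phi_pow, one_mul]
  obtain ⟨g, hg⟩ := P.fr_tau
  rcases h with rfl | rfl
  · rw [h1]
    exact ⟨phi_isFrob p n, _, phi_fr hp _ p (locFin p) n⟩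
  · rw [h1]
    exact ⟨by simpa using P.frob.mul (phi_isFrob p n), _, hg.mul (phi_fr hp _ p (locFin p) n)⟩

theorem dg_frob {φ : MulAut (YY D p)} {n : ℕ} (h : Dg τ ψ φ (κ * n)) : IsFrob p n φ ∧
    ∃ (y : YY D p) (g : (Fin l → ℤ) ≃+ (Fin l → ℤ)),
      Fr M.toCoxeterSystem hp.isCartan (TT D (KK p)) (XX D l (KK p)) (MulAut.conj y * φ) g := by
  obtain ⟨y, β, hβ, rfl⟩ := h
  obtain ⟨h1, g, h2⟩ := P.bt_frob hβ
  exact ⟨h1.conj_mul y, y⁻¹, g, by rwa [map_inv, inv_mul_cancel_left]⟩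

theorem dg_one {n : ℤ} (h : Dg τ ψ 1 n) : n = 0 := by
  have key : ∀ j : ℕ, Dg τ ψ 1 j → j = 0 := by
    intro j hj
    have h1 := hj.pow P.sq P.comm κ
    rw [one_pow] at h1
    by_contra h0
    exact not_isFrob_one (hp := hp) (Nat.pos_of_ne_zero h0) P.pos (P.dg_frob h1).1
  obtain ⟨j, rfl | rfl⟩ := Int.eq_nat_or_neg n
  · rw [key j h]; rfl
  · have h1 := h.inv P.sq P.comm
    rw [inv_one, neg_neg] at h1
    rw [key j h1]; rfl

theorem dg_uniq {φ : MulAut (YY D p)} {n n' : ℤ} (h : Dg τ ψ φ n) (h' : Dg τ ψ φ n') : n = n' := by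
  have h1 := h.mul P.sq P.comm (h'.inv P.sq P.comm)
  rw [mul_inv_cancel] at h1
  have := P.dg_one h1
  omega

theorem dg_pos {φ : MulAut (YY D p)} {n : ℤ} (h : Dg τ ψ φ n) (hn : 0 < n) :
    DL.Amb p (D.group (KK p)).subtype φ ∧ ∃ y g ex Mx, Sem hp p (MulAut.conj y * φ) g ex Mx := by
  obtain ⟨j, rfl⟩ := Int.eq_ofNat_of_zero_le hn.le
  have hj : 0 < j := by omega
  constructor
  · obtain ⟨d, hd, h1⟩ := Sig.exists_pow_frob (locFin p) (P.dg_frob (h.pow P.sq P.comm κ)).1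
    exact ⟨DL.Ex.lf_of_locFin (locFin p), (D.group (KK p)).subtype_injective, κ * d, d * j, Nat.mul_pos P.κ_pos hd,
      Nat.mul_pos hd hj, fun y => by rw [pow_mul]; exact h1 y⟩
  · obtain ⟨y, β, hβ, rfl⟩ := h
    obtain ⟨g, hg⟩ := P.fr_tau
    refine ⟨y⁻¹, ?_⟩
    rw [map_inv, inv_mul_cancel_left]
    rcases hβ with rfl | rfl
    · rw [zpow_natCast]
      exact (P.sm.pow j).sem
    · rw [zpow_natCast]
      exact ((sm_of_fr P.frob hg).mul (P.sm.pow j)).sem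

theorem σ_zpow (k : ℤ) (x : K) : (m.σ ^ k) (m.ι x) = m.ι x := by
  have h1 : m.σ ∈ MulAction.stabilizer (MulAut (YY D p)) (m.ι x) := m.fix x
  exact zpow_mem h1 k

/-- **The automorphisms `conj y * β` which centralise the finite group.** -/
theorem ker {y : YY D p} {β : MulAut (YY D p)} (hβ : β ∈ Subgroup.closure ({τ, ψ} : Set (MulAut (YY D p))))
    (h : ∀ x, y * β (m.ι x) * y⁻¹ = m.ι x) : MulAut.conj y * β ∈ Subgroup.zpowers m.σ := by
  have hN : 0 < κ * m.e := Nat.mul_pos P.κ_pos m.he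
  have hfin : Finite ↥(DL.fix m.σ) := m.fin
  obtain ⟨t, ht0, ht, hc⟩ : ∃ t : ℕ, 0 < t ∧ (τ = 1 ∨ 1 < t) ∧
      Nat.card (DL.fix m.σ) * (t * (κ * m.e)) ≤ Nat.card (MulAut K) := by
    rcases P.cnt with ⟨h1, h2⟩ | h2
    · exact ⟨1, one_pos, Or.inl h1, by rwa [one_mul]⟩
    · exact ⟨2, two_pos, Or.inr one_lt_two, h2⟩
  have hred : ∀ β ∈ Subgroup.closure ({τ, ψ} : Set (MulAut (YY D p))), ∃ (i : Fin t) (j : Fin (κ * m.e)) (k : ℤ),
      β = τ ^ (i : ℕ) * ψ ^ (j : ℕ) * m.σ ^ k := by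
    intro β hβ
    obtain ⟨n, hn⟩ := bt_of_mem P.sq P.comm hβ
    obtain ⟨j, k, h1 | h1⟩ := Bt.red P.sq P.comm hN P.hσ hn
    · exact ⟨⟨0, ht0⟩, j, k, by rw [h1, pow_zero, one_mul]⟩
    · rcases ht with h2 | h2
      · exact ⟨⟨0, ht0⟩, j, k, by rw [h1, pow_zero, h2]⟩
      · exact ⟨⟨1, h2⟩, j, k, by rw [h1, pow_one]⟩
  let R : MulAut K → ↥(DL.fix m.σ) × Fin t × Fin (κ * m.e) → Prop := fun α z =>
    ∀ x, m.ι (α x) = (z.1 : YY D p) * (τ ^ (z.2.1 : ℕ) * ψ ^ (z.2.2 : ℕ)) (m.ι x) * (z.1 : YY D p)⁻¹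
  have hR : ∀ (α : MulAut K) (y : YY D p) (β : MulAut (YY D p)), β ∈ Subgroup.closure ({τ, ψ} : Set (MulAut (YY D p))) →
      (∀ x, m.ι (α x) = y * β (m.ι x) * y⁻¹) → ∃ (hy : y ∈ DL.fix m.σ) (i : Fin t) (j : Fin (κ * m.e)) (k : ℤ),
        β = τ ^ (i : ℕ) * ψ ^ (j : ℕ) * m.σ ^ k ∧ R α (⟨y, hy⟩, i, j) := by
    intro α y β hβ hy
    obtain ⟨i, j, k, e⟩ := hred β hβ
    refine ⟨fix_of_ext P.ext hβ hy, i, j, k, e, fun x => ?_⟩
    show m.ι (α x) = y * (τ ^ (i : ℕ) * ψ ^ (j : ℕ)) (m.ι x) * y⁻¹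
    rw [hy, e, MulAut.mul_apply, P.σ_zpow]
  obtain ⟨hy, i, j, k, e, h1⟩ := hR 1 y β hβ fun x => (h x).symm
  have h2 : R 1 (1, ⟨0, ht0⟩, ⟨0, hN⟩) := fun x => by simp
  have h3 := uniq_of_card R (fun α => by
      obtain ⟨y, β, hβ, hy⟩ := P.ext.ext α
      obtain ⟨hy, i, j, -, -, h1⟩ := hR α y β hβ hy
      exact ⟨_, h1⟩)
    (fun α α' z h h' => MulEquiv.ext fun x => m.inj ((h x).trans (h' x).symm))
    (by rwa [Nat.card_prod, Nat.card_prod, Nat.card_fin, Nat.card_fin]) h1 h2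
  obtain ⟨h4, h5⟩ := Prod.ext_iff.1 h3
  obtain ⟨h5, h6⟩ := Prod.ext_iff.1 h5
  have h7 : y = 1 := congrArg Subtype.val h4
  have h8 : (i : ℕ) = 0 := congrArg Fin.val h5
  have h9 : (j : ℕ) = 0 := congrArg Fin.val h6
  rw [h7, e, h8, h9, map_one, pow_zero, pow_zero, one_mul, one_mul, one_mul]
  exact ⟨k, rfl⟩

end Pre

theorem Pre.xf {q : ℕ} {G : Type} [Group G] {T : Subgroup G} (hT : AS T) {m : MData hp p q T} {τ ψ : MulAut (YY D p)}
    {κ : ℕ} (P : Pre m τ ψ κ) : Nonempty (XF hp p q T) := by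
  obtain ⟨L, h1, h2, h3⟩ := P.ext.exists_lift hT.normal hT.cent
  have hΓ : ∀ φ : L.Γ, ∃ y : YY D p, ∃ β ∈ Subgroup.closure ({τ, ψ} : Set (MulAut (YY D p))),
      (φ : MulAut (YY D p)) = MulAut.conj y * β := fun φ => by
    have h4 : (φ : MulAut (YY D p)) ∈ Gam hT.normal m (Subgroup.closure {τ, ψ}) := by
      rw [← h3]
      exact φ.2
    exact h4.1
  have hex : ∀ φ : L.Γ, ∃ n, Dg τ ψ (φ : MulAut (YY D p)) n := fun φ => by
    obtain ⟨y, β, hβ, e⟩ := hΓ φ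
    obtain ⟨n, hn⟩ := bt_of_mem P.sq P.comm hβ
    exact ⟨n, y, β, hn, e⟩
  choose deg hdeg using hex
  have h0 : ∀ φ : L.Γ, deg φ = 0 → ∃ y : YY D p, (φ : MulAut (YY D p)) = MulAut.conj y ∨
      (φ : MulAut (YY D p)) = MulAut.conj y * τ := by
    intro φ h
    obtain ⟨y, β, hβ, e⟩ := hdeg φ
    rw [h] at hβ
    refine ⟨y, hβ.imp (fun h5 => ?_) fun h5 => ?_⟩
    · rw [e, h5, zpow_zero, mul_one]
    · rw [e, h5, zpow_zero, mul_one]
  refine ⟨{
    m := m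
    A := _
    ext := P.ext
    L := L
    hσ := h1
    hι := h2
    ker := fun φ hφ => ?_
    κ := κ
    hκ := P.hκ
    deg := deg
    deg_mul := fun φ φ' => P.dg_uniq (hdeg _) ((hdeg φ).mul P.sq P.comm (hdeg φ'))
    deg_σ := P.dg_uniq (hdeg _) (by
      have h4 := P.hσ.dg
      rwa [Nat.cast_mul, ← h1] at h4)
    frob := fun φ n h => P.dg_frob (h ▸ hdeg φ)
    pos := fun φ h => P.dg_pos (hdeg φ) h
    alg := fun φ h => ?_
    alg₂ := fun φ φ' h h' => ?_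
    gW := P.gW
    idx := h1 ▸ P.idx
    ord := P.ord }⟩
  · obtain ⟨y, β, hβ, e⟩ := hΓ φ
    rw [e, h1]
    refine P.ker hβ fun x => ?_
    have h4 := L.act φ x x (by rw [hφ, one_mul, inv_one, mul_one])
    rwa [e, h2] at h4
  · obtain ⟨y, e | e⟩ := h0 φ h
    · exact Or.inl ⟨y, e⟩
    · rcases P.tau with h4 | ⟨h4, g, w, h5, h6⟩
      · exact Or.inl ⟨y, by rw [e, h4, mul_one]⟩
      · exact Or.inr ⟨h4, y⁻¹, g, w, by rwa [e, map_inv, inv_mul_cancel_left], h6⟩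
  · obtain ⟨y, e | e⟩ := h0 φ h
    · exact Or.inl ⟨y, e⟩
    · obtain ⟨y', e' | e'⟩ := h0 φ' h'
      · exact Or.inr (Or.inl ⟨y', e'⟩)
      · refine Or.inr (Or.inr ⟨y * τ y', ?_⟩)
        rw [e, e', map_mul, mul_assoc, ← mul_assoc τ, mul_conj', mul_assoc, P.sq, mul_one]

theorem Pre.hasFrm {q : ℕ} {K : Type} [Group K] {m : MData hp p q K} {τ ψ : MulAut (YY D p)} {κ : ℕ}
    (P : Pre m τ ψ κ) : HasFrm hp p K := fun _ _ _ _ hT ⟨f⟩ => ⟨q, (P.congr f).xf hT⟩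

end Cfsg.Agent.SB.Exc.Frm
end

-- part: SB/Exc/Frm/Main
section
/-!
# S5765, exceptional groups: the frames exist (helper56)

`boxFrmF4`, `boxFrmE6`, `boxFrmE7`, `boxFrmE8`, `boxFrm2E6`.
-/

set_option autoImplicit false
set_option linter.unusedSectionVars false

namespace Cfsg.Agent.SB.Exc.Frm

open CoxeterSystem Cfsg Cfsg.Lie Cfsg.Lie.ChevalleyDatum
open Cfsg.Agent.ChevalleyStructure Cfsg.Agent.ChevalleyStructure.Elts Cfsg.Agent.ChevalleyStructure.CoxeterGeom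
  Cfsg.Agent.ChevalleyStructure.CoxeterGeomTypes Cfsg.Agent.ChevalleyStructure.NPerm
open Cfsg.Agent.Tits.Roots Cfsg.Agent.Tits.Core Cfsg.Agent.Nodes Cfsg.Agent.Nodes.Reps Cfsg.Agent.Nodes.BNOf
  Cfsg.Agent.Nodes.RGDChev Cfsg.Agent.Nodes.Bruhat
open Cfsg.Agent.KFacts.RgdField Cfsg.Agent.KFacts.RgdChevCoord
open Cfsg.Agent.BpExc Cfsg.Agent.BpExc.FamField Cfsg.Agent.BpExc.TorCent Cfsg.Agent.BpExc.TorChev Cfsg.Agent.BpExc.Tow
  Cfsg.Agent.BpExc.TowChev Cfsg.Agent.BpExc.Fr Cfsg.Agent.BpExc.LangFr Cfsg.Agent.GpExc.Field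
  Cfsg.Agent.BpExc.FamExt Cfsg.Agent.BpExc.FamUntw Cfsg.Agent.BpExc.FamInst
open Cfsg.Agent.H469.Exc Cfsg.Agent.H469.Exc.SigFr
open Cfsg.Agent.ChevalleyStructure.SignedSymm Cfsg.Agent.ChevalleyStructure.GraphSymm
open Cfsg.Agent.H316.U6 Cfsg.Agent.DS.Ex Cfsg.Agent.DS.Ex.Untw

variable {D : ChevalleyDatum} {l : ℕ} {M : CoxeterMatrix (Fin l)} {p : ℕ} [Fact p.Prime]

/-! ### generalities -/

theorem e_eq {hp : IsType D l M} {q n : ℕ} {K : Type} [Group K] (m : MData hp p q K) (h : q = p ^ n) : m.e = n :=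
  Nat.pow_right_injective (Fact.out : p.Prime).two_le (m.hq.trans h)

theorem card_fix_le {Y S : Type} [Group Y] [Group S] {σ : MulAut Y} {T : Subgroup Y} {ι : S →* Y} {d d' : ℕ}
    (O : DL.Ex.Over σ ⊤ T ι d) (hd : 0 < d') (h : O.hom.range.index ∣ d') : Nat.card (DL.fix σ) ≤ d' * Nat.card S := by
  have h1 := O.card_eq
  have h2 : DL.GF σ ⊤ = DL.fix σ := top_inf_eq _
  rw [← h2, h1, mul_comm]
  exact Nat.mul_le_mul_right _ (Nat.le_of_dvd hd h)

theorem card_fix_le_one {Y S : Type} [Group Y] [Group S] {σ : MulAut Y} {T : Subgroup Y} {ι : S →* Y}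
    (O : DL.Ex.Over σ ⊤ T ι 1) : Nat.card (DL.fix σ) ≤ 1 * Nat.card S := by
  have h1 := Nat.card_congr O.equiv.toEquiv
  rw [DL.GF, top_inf_eq] at h1
  rw [h1, one_mul]

theorem phi_eq (hD : InList D) (n : ℕ) : phi D (KK p) p n = DL.Ex.frobA hD p n :=
  (eq_phi p fun _ => rfl).symm

theorem psi_pow {ψ : MulAut (YY D p)} {κ : ℕ} (h : ψ ^ κ = phi D (KK p) p 1) (n : ℕ) :
    phi D (KK p) p n = ψ ^ ((κ * n : ℕ) : ℤ) := by
  rw [zpow_natCast, pow_mul, h, phi_pow, one_mul]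

theorem sm_phi (hp : IsType D l M) : Sm hp p (phi D (KK p) p 1) :=
  sm_of_fr (phi_isFrob p 1) (phi_fr hp _ p (locFin p) 1)

theorem center_of_ext {hp : IsType D l M} {q : ℕ} {K : Type} [Group K] {m : MData hp p q K}
    {A : Subgroup (MulAut (YY D p))} (h : _root_.Cfsg.Agent.DS.Ex.Ext m A) (y : K) (hy : ∀ x, y * x = x * y) : y = 1 := by
  apply m.inj
  rw [map_one]
  exact h.cent _ fun x => by rw [← map_mul, ← map_mul, hy]

/-- **Untwisted groups without the graph automorphism of `E₆`.** -/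
theorem pre_untw (hp : IsType D l M) (hD : D ∈ [chevF4, chevE6, chevE7, chevE8]) (hl : 0 < l) (F : Type) [Field F]
    [Fintype F] [CharP F p] {d : ℕ} {B : Fin l → Fin l → ℤ} (hB : InvC D l d B) (hB' : H129.TorusChar.InvC D l d B)
    (hd : d = 1 ∨ (D = chevE7 ∧ d = 2)) (ψ : MulAut (YY D p)) (κ : ℕ)
    (hκ : κ = 1 ∨ (D = chevF4 ∧ p = 2 ∧ κ = 2)) (hψ : ψ ^ κ = phi D (KK p) p 1) (hw : WFr hp p ψ) (hw' : WFr hp p ψ⁻¹)
    (hs : (D = chevF4 → p ≠ 2) → SFr hp p ψ) (hsm : Sm hp p ψ)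
    (hg : ∀ (f : F →+* KK p) (g : MulAut ↥(D.group F)), D.IsGraphAut g →
      g = 1 ∨ ∀ a, emb hp.inList f (g a) = ψ (emb hp.inList f a)) {c : ℕ}
    (hfix : ∀ (_ : F →+* KK p) (n : ℕ), Fintype.card F = p ^ n →
      Nat.card (DL.fix (DL.Ex.frobA (k := KK p) hp.inList p n)) ≤ Nat.gcd d (p ^ n - 1) * Nat.card (D.group F))
    (hout : ∀ n : ℕ, Fintype.card F = p ^ n → Nat.card (Out ↥(D.group F)) = Nat.gcd d (p ^ n - 1) * (κ * n))
    (hdM : d ≤ dM l) (hord : ordU l (Fintype.card F) = c * Nat.card (D.group F)) (hc : c ≤ dM l) :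
    HasFrm hp p ↥(D.group F) := by
  have hd0 : d ≠ 0 := by rcases hd with h | ⟨-, h⟩ <;> omega
  have hd1 : d = 1 ∨ d.Prime := by
    rcases hd with h | ⟨-, h⟩
    · exact Or.inl h
    · exact Or.inr (h ▸ Nat.prime_two)
  obtain ⟨f⟩ := RowsUntw.exists_emb p F
  obtain ⟨n, hn0, hn⟩ := exists_card (F := F) p
  obtain ⟨m, hι, hσ, hmg, hdd⟩ := H28.GenF.mdata_std' (r := p) hp F hB' hd0 hd1 f hn0 hn
  rw [Nat.card_eq_fintype_card] at hn
  have he : m.e = n := e_eq m hn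
  have hψA : ψ ∈ Subgroup.closure ({1, ψ} : Set (MulAut (YY D p))) := Subgroup.subset_closure (by simp)
  have hphi : ∀ j, phi D (KK p) p j ∈ Subgroup.closure ({1, ψ} : Set (MulAut (YY D p))) := fun j => by
    rw [psi_pow hψ]
    exact zpow_mem hψA _
  have hE : _root_.Cfsg.Agent.DS.Ex.Ext m (Subgroup.closure {1, ψ}) := by
    refine ⟨hσ ▸ hphi n, ?_, ?_, ?_, ?_, ?_, ?_⟩
    · have h1 : Subgroup.closure ({1, ψ} : Set (MulAut (YY D p))) ≤
          Subgroup.centralizer (Subgroup.closure ({1, ψ} : Set (MulAut (YY D p))) : Set (MulAut (YY D p))) := by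
        rw [Subgroup.closure_le, Subgroup.centralizer_closure]
        rintro x (rfl | rfl) y (rfl | rfl)
        · rfl
        · rw [one_mul, mul_one]
        · rw [one_mul, mul_one]
        · rfl
      exact fun β hβ β' hβ' => h1 hβ' β hβ
    · have h1 : Subgroup.closure ({1, ψ} : Set (MulAut (YY D p))) ≤ WF hp p := by
        rw [Subgroup.closure_le]
        rintro x (rfl | rfl)
        · exact one_mem _
        · exact ⟨hw, hw'⟩
      exact fun β hβ => (h1 hβ).1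
    · intro h
      have h1 : Subgroup.closure ({1, ψ} : Set (MulAut (YY D p))) ≤ SF hp p := by
        rw [Subgroup.closure_le]
        rintro x (rfl | rfl)
        · exact one_mem _
        · exact hs h
      exact fun β hβ => h1 hβ
    · intro α
      obtain ⟨x, δ, g, φ, h1, h2, h3, h4⟩ := H79.Steinberg.exists_fac hp.inList α
      obtain ⟨τ, rfl⟩ := H296.ESixGF.eq_fld hp h3
      obtain ⟨j, hj⟩ := exists_pow_eq p τ
      obtain ⟨t, -, ht⟩ := H296.Core.diag_ext hp f hB hd0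
        (fun c _ => IsAlgClosed.exists_pow_nat_eq (f c) (Nat.pos_of_ne_zero hd0)) h1
      have h5 : ∀ a, emb hp.inList f (CpAut.RgdUntw.fld D τ a) = phi D (KK p) p j (emb hp.inList f a) := fun a =>
        (FamExt.fld_emb hp f (fun a => by rw [frb_apply, hj, map_pow]) a).symm
      rw [hι]
      rcases hg f g h2 with h6 | h6
      · refine ⟨emb hp.inList f x * t, _, hphi j, fun a => ?_⟩
        rw [h4, map_mul, map_mul, map_inv, ht, h6, MulAut.one_apply, h5]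
        group
      · refine ⟨emb hp.inList f x * t, _, mul_mem hψA (hphi j), fun a => ?_⟩
        rw [h4, map_mul, map_mul, map_inv, ht, h6, h5, MulAut.mul_apply]
        group
    · rw [hι]
      exact fun y hy => eq_one_of_comm hp (locFin p) p f (center_YY hD) hy
    · rw [hdd]
      rcases hd with h | ⟨h, h'⟩
      · exact Or.inl (by rw [h, Nat.gcd_one_left])
      · subst h'
        rcases (Nat.dvd_prime Nat.prime_two).1 (Nat.gcd_dvd_left 2 (Fintype.card F - 1)) with h1 | h1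
        · exact Or.inl h1
        · exact Or.inr (Or.inr ⟨h, h1⟩)
  have hf := hfix f n hn
  rw [← phi_eq, ← hσ] at hf
  refine Pre.hasFrm (m := m) (τ := 1) (ψ := ψ) (κ := κ) ⟨hl, hκ, one_mul _, by rw [one_mul, mul_one], hψ, Or.inl ?_, hE,
    IsFrob.one, Or.inl rfl, hsm, ⟨1, Or.inl fun a => ?_⟩, Or.inl ⟨rfl, ?_⟩, ?_, ?_⟩
  · rw [hσ, he, psi_pow hψ]
  · rw [hmg, map_one]; rfl
  · rw [card_aut (center_of_ext hE), hout n hn, he, mul_right_comm]
    exact Nat.mul_le_mul_right _ hf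
  · exact hf.trans (Nat.mul_le_mul_right _ ((Nat.gcd_le_left _ (Nat.pos_of_ne_zero hd0)).trans hdM))
  · rw [hord]
    exact Nat.mul_le_mul_right _ hc

theorem pre_nograph (hp : IsType D l M) (hD : D ∈ [chevF4, chevE6, chevE7, chevE8]) (hl : 0 < l) (F : Type) [Field F]
    [Fintype F] [CharP F p] {d : ℕ} {B : Fin l → Fin l → ℤ} (hB : InvC D l d B) (hB' : H129.TorusChar.InvC D l d B)
    (hd : d = 1 ∨ (D = chevE7 ∧ d = 2)) (hg : ∀ g : MulAut ↥(D.group F), D.IsGraphAut g → g = 1) {c : ℕ}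
    (hfix : ∀ (_ : F →+* KK p) (n : ℕ), Fintype.card F = p ^ n →
      Nat.card (DL.fix (DL.Ex.frobA (k := KK p) hp.inList p n)) ≤ Nat.gcd d (p ^ n - 1) * Nat.card (D.group F))
    (hout : ∀ n : ℕ, Fintype.card F = p ^ n → Nat.card (Out ↥(D.group F)) = Nat.gcd d (p ^ n - 1) * (1 * n))
    (hdM : d ≤ dM l) (hord : ordU l (Fintype.card F) = c * Nat.card (D.group F)) (hc : c ≤ dM l) :
    HasFrm hp p ↥(D.group F) :=
  pre_untw hp hD hl F hB hB' hd _ 1 (Or.inl rfl) (pow_one _) (sfr_wfr (sfr_phi hp 1)) (sfr_wfr (sfr_inv (sfr_phi hp 1)))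
    (fun _ => sfr_phi hp 1) (sm_phi hp) (fun _ g h => Or.inl (hg g h)) hfix hout hdM hord hc

/-! ### `E₈`, `E₇`, `F₄` -/

theorem boxFrmE8 : BoxFrmE8 := by
  intro p _ F _ _ _
  refine pre_nograph (c := 1) hpE8 (by simp) (by norm_num) F inv_E8 inv_E8 (Or.inl rfl)
    (fun g => eq_one_of_symm hpE8.inList fun _ => H79.DiagSymm.eq_one_E8) (fun f n hn => ?_) (fun n hn => ?_)
    (by decide) ?_ (by decide)
  · rw [Nat.gcd_one_left]
    exact card_fix_le_one (DL.Ex.over_E8 f hn hpE8)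
  · rw [S2125.result p n hn, Nat.gcd_one_left, one_mul, one_mul]
  · rw [S1065.result rfl]
    simp only [ordU, nP, degs, mul_assoc, _root_.Nat.reduceEqDiff, ↓ _root_.reduceIte, _root_.Nat.succ_ne_self, _root_.List.map_cons, _root_.List.map_nil, _root_.List.prod_cons, _root_.List.prod_nil, _root_.mul_one, _root_.one_mul]

theorem boxFrmE7 : BoxFrmE7 := by
  intro p _ F _ _ _
  refine pre_nograph (c := Nat.gcd 2 (Fintype.card F - 1)) hpE7 (by simp) (by norm_num) F inv_E7 inv_E7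
    (Or.inr ⟨rfl, rfl⟩) (fun g => eq_one_of_symm hpE7.inList fun _ => H79.DiagSymm.eq_one_E7) (fun f n hn => ?_)
    (fun n hn => ?_) (by decide) ?_ (Nat.gcd_le_left _ two_pos)
  · exact card_fix_le _ (Nat.gcd_pos_of_pos_left _ two_pos) (DL.Ex.index_dvd_E7 f hn hpE7)
  · rw [S2124.result p n hn, one_mul]
  · rw [S1064.result rfl]
    simp only [ordU, nP, degs, mul_assoc, _root_.Nat.reduceEqDiff, ↓ _root_.reduceIte, _root_.Nat.succ_ne_self, _root_.List.map_cons, _root_.List.map_nil, _root_.List.prod_cons, _root_.List.prod_nil, _root_.mul_one]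

open Cfsg.Agent.H296.FFour in
theorem sm_al : Sm hpF4 2 (al (KK 2)) := by
  have h1 : ∀ a < chevF4.nroots, ∃ s, Act hpF4.inList (al (KK 2)) a s := fun a ha => ⟨_, act_al ha⟩
  refine ⟨fun t ht => mem_TT_of_act h1 ht, fun a => vec chevF4 4 (br (idx chevF4 4 a)),
    fun a => if la (idx chevF4 4 a) = 1 then 0 else 1, fun a ha => ?_, fun a ha => ?_, fun b hb => ?_⟩
  · obtain ⟨r, hr, rfl⟩ := (isRoot_iff hpF4 _ _).1 ha
    beta_reduce
    rw [idx_vec hpF4 hr]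
    exact isRoot_vec hpF4 _ (tab r hr).1
  · obtain ⟨r, hr, rfl⟩ := (isRoot_iff hpF4 _ _).1 ha
    refine ⟨1, one_ne_zero, fun u => ?_⟩
    beta_reduce
    rw [idx_vec hpF4 hr, DL.Ex.xc_vec hpF4 hr, DL.Ex.xc_vec hpF4 (tab r hr).1, one_mul]
    refine (al_xS hr u).trans ?_
    rcases (tabN r hr).2.2.2 with h | h
    · rw [if_pos h, h, pow_zero]; rfl
    · rw [if_neg (by omega), h, pow_one]; rfl
  · obtain ⟨r, hr, rfl⟩ := (isRoot_iff hpF4 _ _).1 hb
    refine ⟨vec chevF4 4 (br r), isRoot_vec hpF4 _ (tab r hr).1, ?_⟩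
    beta_reduce
    rw [idx_vec hpF4 (tab r hr).1, (tab r hr).2.1]

open Cfsg.Agent.H296.FFour in
theorem boxFrmF4 : BoxFrmF4 := by
  intro p _ F _ _ _
  have hfix : ∀ (_ : F →+* KK p) (n : ℕ), Fintype.card F = p ^ n →
      Nat.card (DL.fix (DL.Ex.frobA (k := KK p) hpF4.inList p n)) ≤ Nat.gcd 1 (p ^ n - 1) * Nat.card (chevF4.group F) := by
    intro f n hn
    rw [Nat.gcd_one_left]
    exact card_fix_le_one (DL.Ex.over_F4 f hn hpF4)
  have hord : ordU 4 (Fintype.card F) = 1 * Nat.card (chevF4.group F) := by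
    rw [S1062.result rfl]
    simp only [ordU, nP, degs, mul_assoc, ↓ _root_.reduceIte, _root_.List.map_cons, _root_.List.map_nil, _root_.List.prod_cons, _root_.List.prod_nil, _root_.mul_one, _root_.one_mul]
  by_cases h2 : p = 2
  · subst h2
    have : ExpChar F 2 := ExpChar.prime Nat.prime_two
    have : PerfectRing F 2 := PerfectRing.ofFiniteOfIsReduced 2 F
    have h1 : ∀ a < chevF4.nroots, ∃ s, Act hpF4.inList (al (KK 2)) a s := fun a ha => ⟨_, act_al ha⟩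
    have h3 : ∀ s < chevF4.nroots, ∃ a, Act hpF4.inList (al (KK 2)) a s := fun s hs => ⟨br s, by
      have h4 := act_al (tab s hs).1
      rwa [(tab s hs).2.1] at h4⟩
    refine pre_untw (p := 2) hpF4 (by simp) (by norm_num) F FamInst.inv_F4 FamInst.inv_F4 (Or.inl rfl) (al (KK 2)) 2
      (Or.inr ⟨rfl, rfl, rfl⟩) (by rw [pow_two]; exact al_sq)
      (wfr_of_act hpF4 h1 h3) (wfr_of_act hpF4 (fun a ha => (h3 a ha).imp fun _ h => h.inv)
        fun a ha => (h1 a ha).imp fun _ h => h.inv) (fun h => absurd rfl (h rfl)) sm_al (fun f g hg => ?_) hfix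
      (fun n hn => ?_) (by decide) hord (by decide)
    · by_cases hg1 : g = 1
      · exact Or.inl hg1
      · rw [eq_al hg hg1]
        exact Or.inr fun a => ((gam_F4 f).nat a).symm
    · rw [S2122.result 2 n hn, Nat.gcd_one_left, one_mul, Nat.gcd_self]
  · refine pre_nograph hpF4 (by simp) (by norm_num) F FamInst.inv_F4 FamInst.inv_F4 (Or.inl rfl) (fun g => graph_F4 h2)
      hfix (fun n hn => ?_) (by decide) hord (by decide)
    rw [S2122.result p n hn, Nat.gcd_one_left, one_mul,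
      (Nat.coprime_primes Nat.prime_two (Fact.out : p.Prime)).2 (Ne.symm h2)]

/-! ### `E₆`, `²E₆` -/

theorem rep_word (hp : IsType D l M) (ω : List (Fin l)) {r : ℕ} (hr : r < D.nroots) :
    ω.foldr (fun i s => D.reflectRoot i s) r < D.nroots ∧
      rep M.toCoxeterSystem hp.isCartan (M.toCoxeterSystem.wordProd ω) (vec D l r) =
        vec D l (ω.foldr (fun i s => D.reflectRoot i s) r) := by
  induction ω with
  | nil => exact ⟨hr, by rw [wordProd_nil, map_one]; rfl⟩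
  | cons j ω ih =>
    exact ⟨reflectRoot_lt hp.inList (lt_rank hp j) ih.1, by
      rw [wordProd_cons, rep_mul_apply, ih.2, rep_vec hp _ j ih.1]; rfl⟩

/-- a word for the longest element -/
def w6 : List (Fin 6) :=
  [0, 2, 3, 4, 5, 1, 3, 4, 2, 3, 1, 0, 2, 3, 4, 5, 1, 3, 4, 2, 3, 0, 2, 1, 3, 4, 2, 3, 0, 2, 1, 3, 0, 2, 1, 0]

theorem w6_tab : ∀ i : Fin 6, w6.foldr (fun i s => chevE6.reflectRoot i s) (chevE6.simple i) =
    chevE6.neg (chevE6.simple (H522.FamTw.Frame.rho6 i)) := by decide +kernel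

theorem perm_eq_neg : ∃ w, ∀ a, H522.FamTw.Frame.permE H522.FamTw.Frame.rho6 a =
    -rep CoxeterMatrix.E₆.toCoxeterSystem hpE6.isCartan w a := by
  obtain ⟨w, hw⟩ : ∃ w, ∀ i : Fin 6, rep CoxeterMatrix.E₆.toCoxeterSystem hpE6.isCartan w (sr i) =
      -sr (H522.FamTw.Frame.rho6 i) := ⟨_, fun i => by
    have h2 := (rep_word hpE6 w6 (simple_lt hpE6.inList (lt_rank hpE6 i))).2
    rwa [w6_tab, vec_neg hpE6 (simple_lt hpE6.inList (lt_rank hpE6 _)), vec_simple hpE6, vec_simple hpE6] at h2⟩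
  refine ⟨w, fun a => ?_⟩
  have hsr : ∀ i : Fin 6, H522.FamTw.Frame.permE H522.FamTw.Frame.rho6 (sr i) =
      (sr (H522.FamTw.Frame.rho6 i) : Fin 6 → ℤ) := by decide
  have h1 : (H522.FamTw.Frame.permE H522.FamTw.Frame.rho6).toAddMonoidHom.toIntLinearMap =
      -rep CoxeterMatrix.E₆.toCoxeterSystem hpE6.isCartan w := by
    refine (Pi.basisFun ℤ (Fin 6)).ext fun i => ?_
    rw [Pi.basisFun_apply]
    rw [LinearMap.neg_apply]
    exact (hsr i).trans (neg_eq_iff_eq_neg.2 (hw i)).symm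
  exact LinearMap.congr_fun h1 a

theorem fr_uniq (hp : IsType D l M) {β : MulAut (YY D p)} {g g' : (Fin l → ℤ) ≃+ (Fin l → ℤ)}
    (F : Fr M.toCoxeterSystem hp.isCartan (TT D (KK p)) (XX D l (KK p)) β g)
    (F' : Fr M.toCoxeterSystem hp.isCartan (TT D (KK p)) (XX D l (KK p)) β g') (a : Fin l → ℤ) : g a = g' a := by
  have h1 : g.toAddMonoidHom.toIntLinearMap = g'.toAddMonoidHom.toIntLinearMap := by
    refine (Pi.basisFun ℤ (Fin l)).ext fun i => ?_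
    rw [Pi.basisFun_apply]
    show g (sr i) = g' (sr i)
    have h2 := isRoot_sr M.toCoxeterSystem hp.isCartan i
    obtain ⟨u, hu, hu1⟩ := H696.GmnToral.XX_ne (k := KK p) hp _ h2
    exact H696.GmnToral.XX_injective hp _ (locFin p) p ((F.root _).2 h2) ((F'.root _).2 h2)
      ((map_ne_one_iff β β.injective).2 hu1) ((F.map _ h2 u).2 hu) ((F'.map _ h2 u).2 hu)
  exact LinearMap.congr_fun h1 a

open Cfsg.Agent.DS.Ex.Six Cfsg.Agent.BpExc.FamTw.Gr
open Cfsg.Agent.ChevalleyStructure.TwE6Basic (hE6)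

theorem pre_six {q : ℕ} {K : Type} [Group K] (m : MData hpE6 p q K) (hE : _root_.Cfsg.Agent.DS.Ex.Ext m (AA p))
    (hσ : m.σ = phi chevE6 (KK p) p m.e ∨ m.σ = gr hE6 symmE6 * phi chevE6 (KK p) p m.e) {d c : ℕ}
    (hfix : Nat.card (DL.fix m.σ) ≤ d * Nat.card K) (hout : Nat.card (Out K) = 2 * d * m.e) (hd : d ≤ 3)
    (hord : ordU 6 q ≤ c * Nat.card K) (hc : c ≤ 3) : HasFrm hpE6 p K := by
  obtain ⟨w, hw⟩ := perm_eq_neg
  have hF := H522.FamTw.Frame.fr_six (k := KK p) hpE6 CoxeterMatrix.E₆.toCoxeterSystem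
  have hP := phi_fr hpE6 CoxeterMatrix.E₆.toCoxeterSystem p (locFin p) m.e
  refine Pre.hasFrm (m := m) (τ := gr hE6 symmE6) (ψ := phi chevE6 (KK p) p 1) (κ := 1) ⟨by norm_num, Or.inl rfl, ?_,
    gr_mul_fld hE6 symmE6 _, pow_one _, ?_, hE, H522.FamTw.Frame.gr_isFrob symmE6 hE6 p, Or.inr ⟨rfl, _, w, hF, hw⟩,
    sm_phi hpE6, ?_, Or.inr ?_, hfix.trans (Nat.mul_le_mul_right _ hd), hord.trans (Nat.mul_le_mul_right _ hc)⟩
  · rw [← pow_two]
    exact H522.FamTw.Frame.gr_sq6 hE6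
  · exact hσ.imp (fun h => by rw [h, psi_pow (pow_one _)]) fun h => by rw [h, psi_pow (pow_one _) m.e]
  · rcases hσ with h | h
    · exact ⟨1, Or.inl fun a => by rw [fr_uniq hpE6 m.fr (h ▸ hP) a, map_one]; rfl⟩
    · exact ⟨w, Or.inr ⟨rfl, fun a => (fr_uniq hpE6 m.fr (h ▸ hF.mul hP) a).trans (hw a)⟩⟩
  · rw [card_aut (center_of_ext hE), hout]
    calc _ ≤ d * Nat.card K * (2 * (1 * m.e)) := Nat.mul_le_mul_right _ hfix
      _ = _ := by ring

theorem boxFrmE6 : BoxFrmE6 := by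
  intro p _ F _ _ _
  obtain ⟨f⟩ := RowsUntw.exists_emb p F
  obtain ⟨n, hn0, hn⟩ := exists_card (F := F) p
  obtain ⟨m, h1, h2, -, h4⟩ := H28.GenF.mdata_std' (r := p) hpE6 F H129.TorusChar.invC_E6 three_ne_zero
    (Or.inr Nat.prime_three) f hn0 hn
  rw [Nat.card_eq_fintype_card] at hn
  have he : m.e = n := e_eq m hn
  refine pre_six (d := Nat.gcd 3 (p ^ n - 1)) (c := Nat.gcd 3 (Fintype.card F - 1)) m
    ⟨?_, AA_comm p, fun β hβ => AA_wfr p hβ, fun _ β hβ => AA_sfr p hβ, ?_, ?_, ?_⟩ (Or.inl (he ▸ h2)) ?_ ?_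
    (Nat.gcd_le_left _ three_pos) ?_ (Nat.gcd_le_left _ three_pos)
  · rw [h2]
    exact phi_mem p n
  · rw [h1]
    exact ext_untw p f
  · rw [h1]
    exact fun y hy => FamUntw.eq_one_of_comm hpE6 (locFin p) p f (center_six _) hy
  · rw [h4]
    rcases gcd_three (Fintype.card F - 1) with h | h
    · exact Or.inl h
    · exact Or.inr (Or.inl ⟨rfl, h⟩)
  · rw [h2, phi_eq hpE6.inList]
    exact card_fix_le _ (Nat.gcd_pos_of_pos_left _ three_pos) (DL.Ex.index_dvd_E6 f hn hpE6)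
  · rw [S2123.result p n hn, he]
  · rw [S1063.result rfl]
    simp only [ordU, nP, degs, mul_assoc, _root_.Nat.reduceEqDiff, ↓ _root_.reduceIte, _root_.List.map_cons, _root_.List.map_nil, _root_.List.prod_cons, _root_.List.prod_nil, _root_.mul_one, _root_.Std.le_refl]

theorem boxFrm2E6 : BoxFrm2E6 := by
  intro p _ K _ _ _ q hq hK
  obtain ⟨f⟩ := RowsUntw.exists_emb p K
  obtain ⟨n, hn0, hn⟩ := exists_eq_pow (r := p) hq hK
  obtain ⟨φ, hφ, hqq⟩ := TwE6Basic.exists_frob hq hK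
  obtain ⟨m, h1, h2, h4⟩ := mdata_tw p hq hK f hn0 hn
  have he : m.e = n := e_eq m hn
  refine pre_six (d := Nat.gcd 3 (p ^ n + 1)) (c := Nat.gcd 3 (q + 1)) m
    ⟨?_, AA_comm p, fun β hβ => AA_wfr p hβ, fun _ β hβ => AA_sfr p hβ, ?_, ?_, ?_⟩ (Or.inr (he ▸ h2)) ?_ ?_
    (Nat.gcd_le_left _ three_pos) ?_ (Nat.gcd_le_left _ three_pos)
  · rw [h2]
    exact mul_mem (gr_mem p) (phi_mem p n)
  · rw [h1]
    intro α
    have hW : Finite CoxeterMatrix.F₄.Group := RGDChev.finite_W hpF4 CoxeterMatrix.F₄.toCoxeterSystem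
    have hΦ : ∀ a, frb (KK p) p n (f a) = f (φ a) := by
      intro a
      rw [frb_apply, hφ, map_pow, hn]
    obtain ⟨a, τ, y, -, -, hy⟩ := FamTw.Six.exists_lift hφ hqq CoxeterMatrix.F₄.toCoxeterSystem p f hK hq.one_lt
      (fun a => IsAlgClosed.exists_pow_nat_eq (f a) (by norm_num)) hΦ α
    obtain ⟨j, hj⟩ := exists_pow_eq p τ
    exact ⟨y, _, phi_mem p j, fun x => by rw [hy, H522.FamTw.Six.em_st f p hj]⟩
  · rw [h1]
    exact fun y hy => H522.FamTw.Six.eq_one_of_comm hφ hqq f y hy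
  · rw [h4]
    rcases gcd_three (q + 1) with h | h
    · exact Or.inl h
    · exact Or.inr (Or.inl ⟨rfl, h⟩)
  · subst hn
    have h5 : m.σ = DL.Ex.sigS p DL.Ex.hp6.inList symmE6 n := by
      rw [h2, phi_eq DL.Ex.hp6.inList]
      exact MulEquiv.ext fun _ => Subtype.ext rfl
    rw [h5]
    exact card_fix_le _ (Nat.gcd_pos_of_pos_left _ three_pos) (DL.Ex.index_dvd_2E6 f hn0 hK)
  · subst hn
    rw [S2130.result p n (by rw [hK, ← pow_mul, mul_comm]) hn0, he]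
  · rw [S1066.result hq hK]
    simp only [ordU, nP, degs, List.map_cons, List.map_nil, List.prod_cons, List.prod_nil, mul_one, mul_assoc,
      Nat.reduceEqDiff, if_false, if_true]
    gcongr <;> omega

end Cfsg.Agent.SB.Exc.Frm
end

private theorem dce_8102255858e9 : _root_.True := by
  try have : _root_.True := by simp only [_root_.Cfsg.Agent.DL.GF.eq_1]
  try have : _root_.True := by simp only [_root_.Cfsg.Agent.SB.Exc.ordU.eq_1]
  try have : _root_.True := by simp only [_root_.Cfsg.Agent.BpExc.LangFr.IsFrob.congr_simp]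
  try have : _root_.True := by simp only [_root_.Cfsg.Agent.SB.Exc.degs.eq_1]
  try have : _root_.True := by simp only [_root_.Cfsg.Agent.SB.Exc.nP.eq_1]
  exact _root_.True.intro
end

-- part: SB/Exc/Frm/MC
section
set_option linter.all false
open scoped Cfsg.Agent.FastGrp

namespace Cfsg.Agent.H90F

private noncomputable def fal {α : Type} (l : List α) (p : α → Bool) : Bool :=
  List.rec true (fun a _ ih => Bool.rec false ih (p a)) l

private theorem al_fun : @List.all.{0} = @fal := by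
  funext α l p
  induction l with
  | nil => rfl
  | cons a l ih => rw [List.all_cons, ih]; show _ = (Bool.rec false (fal l p) (p a) : Bool); cases p a <;> rfl

private noncomputable def ffl {α : Type} (p : α → Bool) (l : List α) : List α :=
  List.rec [] (fun a _ ih => Bool.rec ih (a :: ih) (p a)) l

private theorem fl_fun : @List.filter.{0} = @ffl := by
  funext α p l
  induction l with
  | nil => rfl
  | cons a l ih =>
    rw [List.filter_cons, ih]; show _ = (Bool.rec (ffl p l) (a :: ffl p l) (p a) : List α); cases p a <;> rfl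

private noncomputable def ibq (a b : ℤ) : Bool :=
  Int.rec (fun m => Int.rec (fun n => Nat.beq m n) (fun _ => false) b) (fun m => Int.rec (fun _ => false) (fun n => Nat.beq m n) b) a

private theorem ibq_iff (a b : ℤ) : ibq a b = true ↔ a = b := by
  rcases a with m | m <;> rcases b with n | n
  · exact Nat.beq_eq.to_iff.trans ⟨fun h => h ▸ rfl, Int.ofNat.inj⟩
  · exact ⟨fun h => Bool.noConfusion h, fun h => nomatch h⟩
  · exact ⟨fun h => Bool.noConfusion h, fun h => nomatch h⟩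
  · exact Nat.beq_eq.to_iff.trans ⟨fun h => h ▸ rfl, Int.negSucc.inj⟩

private theorem bz_fun : @BEq.beq ℤ instBEqOfDecidableEq = ibq := by
  funext a b; rw [Bool.eq_iff_iff, beq_iff_eq, ibq_iff]

end Cfsg.Agent.H90F

/-!
# S5765, exceptional groups: the facts on root systems `BoxMC` (helper56)
-/

set_option autoImplicit false
set_option linter.unusedSectionVars false

namespace Cfsg.Agent.SB.Exc.Frm

open CoxeterSystem Cfsg Cfsg.Lie Cfsg.Lie.ChevalleyDatum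
open Cfsg.Agent.ChevalleyStructure Cfsg.Agent.ChevalleyStructure.Elts Cfsg.Agent.ChevalleyStructure.CoxeterGeom
  Cfsg.Agent.ChevalleyStructure.CoxeterGeomTypes
open Cfsg.Agent.Tits.Roots Cfsg.Agent.Tits.Core Cfsg.Agent.Nodes Cfsg.Agent.Nodes.Reps Cfsg.Agent.Nodes.BNOf
  Cfsg.Agent.Nodes.RGDChev Cfsg.Agent.Nodes.Bruhat Cfsg.Agent.Nodes.Coroot
open Cfsg.Agent.KFacts.RgdField Cfsg.Agent.KFacts.RgdChevCoord
open Cfsg.Agent.BpExc Cfsg.Agent.BpExc.Zc
open Cfsg.Agent.H469.Exc Cfsg.Agent.DS.Ex Cfsg.Agent.SB.Exc.Max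
open scoped commutatorElement

/-! ### the type of a datum -/

theorem type_of {D : ChevalleyDatum} {l : ℕ} {M : CoxeterMatrix (Fin l)} (hp : IsType D l M) {l' : ℕ}
    {M' : CoxeterMatrix (Fin l')} (hp' : IsType D l' M') (hD : Typ D) :
    (⟨l, M⟩ : Σ n : ℕ, CoxeterMatrix (Fin n)) = ⟨l', M'⟩ := by
  have key : ∀ {l : ℕ} {M : CoxeterMatrix (Fin l)}, IsType D l M →
      (D.nroots = 48 → (⟨l, M⟩ : Σ n : ℕ, CoxeterMatrix (Fin n)) = ⟨4, CoxeterMatrix.F₄⟩) ∧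
      (D.nroots = 72 → (⟨l, M⟩ : Σ n : ℕ, CoxeterMatrix (Fin n)) = ⟨6, CoxeterMatrix.E₆⟩) ∧
      (D.nroots = 126 → (⟨l, M⟩ : Σ n : ℕ, CoxeterMatrix (Fin n)) = ⟨7, CoxeterMatrix.E₇⟩) ∧
      (D.nroots = 240 → (⟨l, M⟩ : Σ n : ℕ, CoxeterMatrix (Fin n)) = ⟨8, CoxeterMatrix.E₈⟩) := by
    intro l M hp
    simp only [IsType, typeList, List.mem_cons, List.not_mem_nil, or_false, Prod.mk.injEq] at hp
    rcases hp with ⟨rfl, e⟩ | ⟨rfl, e⟩ | ⟨rfl, e⟩ | ⟨rfl, e⟩ | ⟨rfl, e⟩ | ⟨rfl, e⟩ | ⟨rfl, e⟩ <;>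
      refine ⟨fun h => ?_, fun h => ?_, fun h => ?_, fun h => ?_⟩ <;>
      first | exact absurd h (by decide +kernel) | exact e
  rcases hD with rfl | rfl | rfl | rfl
  · exact ((key hp).1 rfl).trans ((key hp').1 rfl).symm
  · exact ((key hp).2.1 rfl).trans ((key hp').2.1 rfl).symm
  · exact ((key hp).2.2.1 rfl).trans ((key hp').2.2.1 rfl).symm
  · exact ((key hp).2.2.2 rfl).trans ((key hp').2.2.2 rfl).symm

/-! ### commuting root groups -/

section Comm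

variable {D : ChevalleyDatum} {l : ℕ} {M : CoxeterMatrix (Fin l)} (hp : IsType D l M) (p : ℕ) [Fact p.Prime]

theorem comm_of_nz {a b : Fin l → ℤ} (ha : IsRoot M.toCoxeterSystem hp.isCartan a)
    (hb : IsRoot M.toCoxeterSystem hp.isCartan b) (hab : a ≠ -b)
    (h : a ≠ b → ∀ i j : ℤ, 0 < i → 0 < j → ¬ IsRoot M.toCoxeterSystem hp.isCartan (i • a + j • b)) {u v : YY D p}
    (hu : u ∈ XX D l (KK p) a) (hv : v ∈ XX D l (KK p) b) : u * v = v * u := by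
  by_cases e : a = b
  · exact Tor.X_comm (hp := hp) ha hu (e ▸ hv)
  · have h1 := Tor.commZ hp p a b ha hb e hab u hu v hv
    have h2 : RGD.Sup (XX D l (KK p)) {z | ZB M.toCoxeterSystem hp.isCartan a b z} ≤ ⊥ := by
      refine RGD.Sup_le ?_
      rintro z ⟨hz, i, j, hi, hj, rfl⟩
      exact absurd hz (h e i j hi hj)
    exact commutatorElement_eq_one_iff_mul_comm.1 (Subgroup.mem_bot.1 (h2 h1))

theorem dc_sl (h4 : ∀ i j, M i j ≠ 4) (h6 : ∀ i j, M i j ≠ 6) : DC M.toCoxeterSystem hp.isCartan (XX D l (KK p)) := by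
  have := finite_W hp M.toCoxeterSystem
  intro a b ha hb h0 u hu v hv
  refine comm_of_nz hp p ha hb (fun e => ?_) (fun _ i j hi hj hz => ?_) hu hv
  · rw [e, cpr_neg_right _ _ _ hb, cpr_self _ _ hb] at h0
    omega
  · have h1 := cpr_self _ _ hz
    have s := fun {x y} hx hy => SimplyLaced.cpr_symm M.toCoxeterSystem hp.isCartan h4 h6 (x := x) (y := y) hx hy
    rw [cpr_add _ _ _ _ hz, cpr_smul _ _ _ _ hz, cpr_smul _ _ _ _ hz, s ha hz, s hb hz, cpr_add _ _ _ _ ha,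
      cpr_add _ _ _ _ hb, cpr_smul _ _ _ _ ha, cpr_smul _ _ _ _ ha, cpr_smul _ _ _ _ hb, cpr_smul _ _ _ _ hb,
      cpr_self _ _ ha, cpr_self _ _ hb, s ha hb] at h1
    nlinarith [mul_pos hi hj, mul_nonneg (mul_pos hi hj).le h0]

/-- three neighbours of the fundamental roots -/
def N3 (D : ChevalleyDatum) : Prop := ∀ i < D.rank, ∃ s < D.nroots, D.cartan i s = 1 ∧ ∃ t < s, D.cartan i t = 1 ∧
  ∃ u < t, D.cartan i u = 1

theorem ir_of (h : N3 D) : IR3 M.toCoxeterSystem hp.isCartan := by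
  have := finite_W hp M.toCoxeterSystem
  rintro _ ⟨w, i, rfl⟩
  obtain ⟨s, hs, h1, t, ht, h2, u, hu, h3⟩ := h i (lt_rank hp i)
  have ht' : t < D.nroots := by omega
  have hu' : u < D.nroots := by omega
  have key : ∀ r < D.nroots, cpr M.toCoxeterSystem hp.isCartan (rep M.toCoxeterSystem hp.isCartan w (vec D l r))
      (rep M.toCoxeterSystem hp.isCartan w (sr i)) = D.cartan i r := fun r hr => by
    rw [cpr_rep _ _ _ _ (isRoot_sr _ _ i), cpr_sr, pairing_vec hp i hr]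
  have ne : ∀ r < D.nroots, ∀ r' < D.nroots, r ≠ r' → rep M.toCoxeterSystem hp.isCartan w (vec D l r) ≠
      rep M.toCoxeterSystem hp.isCartan w (vec D l r') := fun r hr r' hr' e e' =>
    e (vec_inj hp hr hr' (rep_injective_apply _ _ w e'))
  exact ⟨_, _, _, (isRoot_vec hp _ hs).act w, (isRoot_vec hp _ ht').act w, (isRoot_vec hp _ hu').act w,
    ne s hs t ht' (by omega), ne s hs u hu' (by omega), ne t ht' u hu' (by omega), (key s hs).trans h1,
    (key t ht').trans h2, (key u hu').trans h3⟩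

end Comm

theorem n3_F4 : N3 chevF4 := by unfold N3; decide +kernel
theorem n3_E6 : N3 chevE6 := by unfold N3; decide +kernel
theorem n3_E7 : N3 chevE7 := by unfold N3; decide +kernel
private noncomputable def _root_.Cfsg.Agent.LsF.f40cd90_0 : {f // @Cfsg.Lie.ChevalleyDatum.cartan = f} := ⟨_, by first | (delta Cfsg.Lie.ChevalleyDatum.cartan; rewrite [Cfsg.Agent.LsF.agetD_eq]; exact rfl) | exact rfl⟩
theorem n3_E8 : N3 chevE8 := by unfold N3; (refine of_decide_eq_true ?_; (try (rewrite [Cfsg.Agent.LsF.f40cd90_0.2, Cfsg.Agent.LsF.instIDecEq_eq, Cfsg.Agent.LsF.dAnd_eq, Cfsg.Agent.LsF.dBallLT_eq, Cfsg.Agent.LsF.dExistsLT_eq, Cfsg.Agent.LsF.decide_eq])); decide +kernel)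

theorem ne4_E7 : ∀ i j : Fin 7, CoxeterMatrix.E₇ i j ≠ 4 := fun i j => by fin_cases i <;> fin_cases j <;> decide
theorem ne6_E7 : ∀ i j : Fin 7, CoxeterMatrix.E₇ i j ≠ 6 := fun i j => by fin_cases i <;> fin_cases j <;> decide
theorem ne4_E8 : ∀ i j : Fin 8, CoxeterMatrix.E₈ i j ≠ 4 := fun i j => by fin_cases i <;> fin_cases j <;> decide
theorem ne6_E8 : ∀ i j : Fin 8, CoxeterMatrix.E₈ i j ≠ 6 := fun i j => by fin_cases i <;> fin_cases j <;> decide

/-! ### `F₄` -/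

namespace Four

/-- the invariant form -/
def bf (x y : Fin 4 → ℤ) : ℤ := x 0 * (2 * y 0 - y 1) + x 1 * (2 * y 1 - y 0 - 2 * y 2) +
  x 2 * (4 * y 2 - 2 * y 1 - 2 * y 3) + x 3 * (4 * y 3 - 2 * y 2)

/-- four integers -/
abbrev T4 : Type := ℤ × ℤ × ℤ × ℤ

/-- the vector -/
def tv (x : T4) : Fin 4 → ℤ := ![x.1, x.2.1, x.2.2.1, x.2.2.2]

/-- the tuple -/
def vt (x : Fin 4 → ℤ) : T4 := (x 0, x 1, x 2, x 3)

/-- the invariant form -/
def ip (x y : T4) : ℤ := x.1 * (2 * y.1 - y.2.1) + x.2.1 * (2 * y.2.1 - y.1 - 2 * y.2.2.1) +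
  x.2.2.1 * (4 * y.2.2.1 - 2 * y.2.1 - 2 * y.2.2.2) + x.2.2.2 * (4 * y.2.2.2 - 2 * y.2.2.1)

/-- the Cartan integer -/
def cp (x y : T4) : ℤ := 2 * ip x y / ip y y

/-- the roots -/
def RL : List T4 :=
  [(-2, -4, -3, -2), (-2, -4, -3, -1), (-2, -4, -2, -1), (-2, -3, -2, -1), (-2, -2, -2, -1), (-2, -2, -1, -1),
  (-2, -2, -1, 0), (-1, -3, -2, -1), (-1, -2, -2, -1), (-1, -2, -1, -1), (-1, -2, -1, 0), (-1, -1, -1, -1),
  (-1, -1, -1, 0), (-1, -1, 0, 0), (-1, 0, 0, 0), (0, -2, -2, -1), (0, -2, -1, -1), (0, -2, -1, 0), (0, -1, -1, -1),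
  (0, -1, -1, 0), (0, -1, 0, 0), (0, 0, -1, -1), (0, 0, -1, 0), (0, 0, 0, -1), (0, 0, 0, 1), (0, 0, 1, 0), (0, 0, 1, 1),
  (0, 1, 0, 0), (0, 1, 1, 0), (0, 1, 1, 1), (0, 2, 1, 0), (0, 2, 1, 1), (0, 2, 2, 1), (1, 0, 0, 0), (1, 1, 0, 0),
  (1, 1, 1, 0), (1, 1, 1, 1), (1, 2, 1, 0), (1, 2, 1, 1), (1, 2, 2, 1), (1, 3, 2, 1), (2, 2, 1, 0), (2, 2, 1, 1),
  (2, 2, 2, 1), (2, 3, 2, 1), (2, 4, 2, 1), (2, 4, 3, 1), (2, 4, 3, 2)]

theorem tv_vt (x : Fin 4 → ℤ) : tv (vt x) = x := by funext i; fin_cases i <;> rfl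

theorem tv_inj {x y : T4} (h : tv x = tv y) : x = y := congrArg vt h

theorem tv_add (x y : T4) : tv (x + y) = tv x + tv y := by funext i; fin_cases i <;> rfl

theorem vec_eq : ∀ s < 48, vt (vec chevF4 4 s) = RL.getD s 0 := by decide +kernel

theorem getD_mem : ∀ s < 48, RL.getD s 0 ∈ RL := by decide +kernel

theorem mem_getD : ∀ x ∈ RL, ∃ s < 48, RL.getD s 0 = x := by (refine of_decide_eq_true ?_; (try (rewrite [Cfsg.Agent.LsF.dProdEq_eq, Cfsg.Agent.LsF.getD_eq, Cfsg.Agent.LsF.instIDecEq_eq, Cfsg.Agent.LsF.dBAll_eq, Cfsg.Agent.LsF.dExistsLT_eq, Cfsg.Agent.LsF.decide_eq])); decide +kernel)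

theorem cartan_eq : ∀ i j : Fin 4, cartanOf chevF4 4 i j =
    (![![2, -1, 0, 0], ![-1, 2, -2, 0], ![0, -1, 2, -1], ![0, 0, -1, 2]] : Fin 4 → Fin 4 → ℤ) i j := by
  decide +kernel

theorem norm_tab : ∀ x ∈ RL, ip x x = 2 ∨ ip x x = 4 := by decide +kernel

private noncomputable def _root_.Cfsg.Agent.LsF.f40cd90_1 : {f // @Cfsg.Agent.SB.Exc.Frm.Four.ip = f} := ⟨_, by first | (delta Cfsg.Agent.SB.Exc.Frm.Four.ip; rewrite [Cfsg.Agent.LsF.iadd_pat, Cfsg.Agent.LsF.imul_pat, Cfsg.Agent.LsF.isub_pat]; exact rfl) | exact rfl⟩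
private noncomputable def _root_.Cfsg.Agent.LsF.f40cd90_2 : {f // @Cfsg.Agent.SB.Exc.Frm.Four.cp = f} := ⟨_, by first | (delta Cfsg.Agent.SB.Exc.Frm.Four.cp; rewrite [Cfsg.Agent.LsF.f40cd90_1.2, Cfsg.Agent.LsF.imul_pat]; exact rfl) | exact rfl⟩
theorem lg_tab : ∀ a ∈ RL, (ip a a = 4 → ∀ c ∈ RL, c ≠ a → cp c a ≤ 1) ∧ (ip a a ≠ 4 → ∃ c ∈ RL, c ≠ a ∧ 2 ≤ cp c a) := by
  (refine of_decide_eq_true ?_; (try (rewrite [Cfsg.Agent.LsF.f40cd90_1.2, Cfsg.Agent.LsF.f40cd90_2.2, Cfsg.Agent.LsF.dProdEq_eq, Cfsg.Agent.LsF.instIDecEq_eq, Cfsg.Agent.LsF.idecLe_eq, Cfsg.Agent.LsF.dAnd_eq, Cfsg.Agent.LsF.dNot_eq, Cfsg.Agent.LsF.dBAll_eq, Cfsg.Agent.LsF.dBEx_eq, Cfsg.Agent.LsF.decide_eq])); decide +kernel)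

theorem pair_tab₁ : ∀ a ∈ RL, ∀ b ∈ RL, b ≠ a → 2 ≤ cp b a → ip b b = 4 := by (refine of_decide_eq_true ?_; (try (rewrite [Cfsg.Agent.LsF.f40cd90_2.2, Cfsg.Agent.LsF.f40cd90_1.2, Cfsg.Agent.LsF.dProdEq_eq, Cfsg.Agent.LsF.instIDecEq_eq, Cfsg.Agent.LsF.idecLe_eq, Cfsg.Agent.LsF.dNot_eq, Cfsg.Agent.LsF.dBAll_eq, Cfsg.Agent.LsF.decide_eq])); decide +kernel)

theorem pair_tab₂ : ∀ a ∈ RL, ∀ b ∈ RL, ip a a ≠ 4 → ip b b = 4 → cp b a % 2 = 0 := by (refine of_decide_eq_true ?_; (try (rewrite [Cfsg.Agent.LsF.f40cd90_1.2, Cfsg.Agent.LsF.f40cd90_2.2, Cfsg.Agent.LsF.imod_pat, Cfsg.Agent.LsF.instIDecEq_eq, Cfsg.Agent.LsF.dNot_eq, Cfsg.Agent.LsF.dBAll_eq, Cfsg.Agent.LsF.decide_eq])); decide +kernel)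

theorem pair_tab₃ : ∀ a ∈ RL, ∀ b ∈ RL, ip a a ≠ 4 → ip b b ≠ 4 → cp b a = 0 → a + b ∈ RL := by (refine of_decide_eq_true ?_; (try (rewrite [Cfsg.Agent.LsF.f40cd90_1.2, Cfsg.Agent.LsF.f40cd90_2.2, Cfsg.Agent.LsF.instIAdd_eq, Cfsg.Agent.LsF.dNot_eq, Cfsg.Agent.LsF.dBAll_eq, Cfsg.Agent.LsF.dMem_eq, Cfsg.Agent.LsF.decide_eq])); decide +kernel)

/-- no positive combination is a root -/
def NZ (x y : T4) : Prop := 0 ≤ ip x y ∧ 4 < ip x x + 2 * ip x y + ip y y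

private noncomputable def _root_.Cfsg.Agent.LsF.f40cd90_3 : {f // @Cfsg.Agent.ChevalleyStructure.GraphCheck.dec = f} := ⟨_, by first | (delta Cfsg.Agent.ChevalleyStructure.GraphCheck.dec; rewrite [Cfsg.Agent.LsF.ndiv_pat, Cfsg.Agent.LsF.nmod_pat, Cfsg.Agent.LsF.cond_eq]; exact rfl) | exact rfl⟩
private noncomputable def _root_.Cfsg.Agent.LsF.f40cd90_4 : {f // @Cfsg.Agent.ChevalleyStructure.GraphTabF4.tabF4Col = f} := ⟨_, by first | (delta Cfsg.Agent.ChevalleyStructure.GraphTabF4.tabF4Col; rewrite [Cfsg.Agent.LsF.f40cd90_3.2, Cfsg.Agent.LsF.nadd_pat, Cfsg.Agent.LsF.nmul_pat, Cfsg.Agent.LsF.nmod_pat]; exact rfl) | exact rfl⟩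
private noncomputable def _root_.Cfsg.Agent.LsF.f40cd90_5 : {f // @Cfsg.Agent.ChevalleyStructure.GraphCheck.dec0 = f} := ⟨_, by first | (delta Cfsg.Agent.ChevalleyStructure.GraphCheck.dec0; rewrite [Cfsg.Agent.LsF.ndiv_pat, Cfsg.Agent.LsF.nmod_pat, Cfsg.Agent.LsF.cond_eq]; exact rfl) | exact rfl⟩
private noncomputable def _root_.Cfsg.Agent.LsF.f40cd90_6 : {f // @Cfsg.Agent.ChevalleyStructure.GraphTabF4.tabF4Act = f} := ⟨_, by first | (delta Cfsg.Agent.ChevalleyStructure.GraphTabF4.tabF4Act; rewrite [Cfsg.Agent.LsF.f40cd90_5.2, Cfsg.Agent.LsF.nadd_pat, Cfsg.Agent.LsF.nmul_pat, Cfsg.Agent.LsF.nmod_pat]; exact rfl) | exact rfl⟩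
private noncomputable def _root_.Cfsg.Agent.LsF.f40cd90_7 : {f // @Cfsg.Agent.ChevalleyStructure.GraphTabF4.tabF4 = f} := ⟨_, by first | (delta Cfsg.Agent.ChevalleyStructure.GraphTabF4.tabF4; rewrite [Cfsg.Agent.LsF.f40cd90_4.2, Cfsg.Agent.LsF.f40cd90_6.2]; exact rfl) | exact rfl⟩
private noncomputable def _root_.Cfsg.Agent.LsF.f40cd90_8 : {f // @Cfsg.Agent.H296.FFour.br = f} := ⟨_, by first | (delta Cfsg.Agent.H296.FFour.br; rewrite [Cfsg.Agent.LsF.f40cd90_7.2, Cfsg.Agent.LsF.getD_eq]; exact rfl) | exact rfl⟩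
open Cfsg.Agent.H296.FFour in
theorem nz_tab : ∀ r < 48, ∀ s < 48, 0 ≤ cp (RL.getD s 0) (RL.getD r 0) →
    NZ (RL.getD r 0) (RL.getD s 0) ∨ NZ (RL.getD (br r) 0) (RL.getD (br s) 0) := by
  unfold NZ
  (refine of_decide_eq_true ?_; (try (rewrite [Cfsg.Agent.LsF.f40cd90_2.2, Cfsg.Agent.LsF.f40cd90_1.2, Cfsg.Agent.LsF.f40cd90_8.2, Cfsg.Agent.LsF.iadd_pat, Cfsg.Agent.LsF.imul_pat, Cfsg.Agent.LsF.getD_eq, Cfsg.Agent.LsF.idecLe_eq, Cfsg.Agent.LsF.idecLt_eq, Cfsg.Agent.LsF.dAnd_eq, Cfsg.Agent.LsF.dOr_eq, Cfsg.Agent.LsF.dBallLT_eq, Cfsg.Agent.LsF.decide_eq])); decide +kernel)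

section Main

variable {W : Type*} [Group W] [Finite W] (hp : IsType chevF4 4 CoxeterMatrix.F₄) (cs : CoxeterSystem CoxeterMatrix.F₄ W)

theorem vec_tv {s : ℕ} (hs : s < 48) : vec chevF4 4 s = tv (RL.getD s 0) := by rw [← vec_eq s hs, tv_vt]

theorem root_iff (x : T4) : IsRoot cs hp.isCartan (tv x) ↔ x ∈ RL := by
  rw [isRoot_iff hp cs]
  constructor
  · rintro ⟨s, hs, h⟩
    rw [vec_tv hs] at h
    exact tv_inj h ▸ getD_mem s hs
  · intro h
    obtain ⟨s, hs, rfl⟩ := mem_getD x h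
    exact ⟨s, hs, vec_tv hs⟩

theorem exists_tv {b : Fin 4 → ℤ} (hb : IsRoot cs hp.isCartan b) : ∃ y ∈ RL, b = tv y :=
  ⟨vt b, (root_iff hp cs _).1 (by rwa [tv_vt]), (tv_vt b).symm⟩

theorem bf_simple (i : Fin 4) (x y : Fin 4 → ℤ) :
    bf (rep cs hp.isCartan (cs.simple i) x) (rep cs hp.isCartan (cs.simple i) y) = bf x y := by
  rw [rep_simple_eq, rep_simple_eq]
  simp only [bf, CoxeterGeom.pairing, cartan_eq, Fin.sum_univ_four, sr]
  fin_cases i <;> simp <;> ring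

theorem bf_rep (w : W) (x y : Fin 4 → ℤ) : bf (rep cs hp.isCartan w x) (rep cs hp.isCartan w y) = bf x y := by
  obtain ⟨ω, rfl⟩ := cs.wordProd_surjective w
  induction ω with
  | nil => rw [wordProd_nil, map_one]; rfl
  | cons i ω ih => rw [wordProd_cons, rep_mul_apply, rep_mul_apply, bf_simple hp, ih]

theorem cpr_bf (x : Fin 4 → ℤ) {y : Fin 4 → ℤ} (hy : IsRoot cs hp.isCartan y) :
    cpr cs hp.isCartan x y * bf y y = 2 * bf x y := by
  obtain ⟨w, i, rfl⟩ := hy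
  rw [cpr_rep_sr, bf_rep hp, ← rep_apply_inv cs hp.isCartan w x, bf_rep hp, rep_inv_apply]
  generalize rep cs hp.isCartan w⁻¹ x = z
  simp only [bf, CoxeterGeom.pairing, cartan_eq, Fin.sum_univ_four, sr]
  fin_cases i <;> simp <;> ring

theorem cpr_tv (x : T4) {y : T4} (hy : y ∈ RL) : cpr cs hp.isCartan (tv x) (tv y) = cp x y := by
  have h1 : cpr cs hp.isCartan (tv x) (tv y) * ip y y = 2 * ip x y := cpr_bf hp cs (tv x) ((root_iff hp cs y).2 hy)
  have h2 : ip y y ≠ 0 := by rcases norm_tab y hy with h | h <;> omega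
  rw [cp, ← h1, Int.mul_ediv_cancel _ h2]

theorem lg_iff {a : T4} (ha : a ∈ RL) : Lg cs hp.isCartan (tv a) ↔ ip a a = 4 := by
  constructor
  · intro h
    by_contra h1
    obtain ⟨c, hc, h2, h3⟩ := (lg_tab a ha).2 h1
    have h4 := h (tv c) ((root_iff hp cs c).2 hc) fun e => h2 (tv_inj e)
    rw [cpr_tv hp cs c ha] at h4
    omega
  · intro h c hc hne
    obtain ⟨c, hc', rfl⟩ := exists_tv hp cs hc
    rw [cpr_tv hp cs c ha]
    exact (lg_tab a ha).1 h c hc' fun e => hne (e ▸ rfl)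

theorem f4c : F4C cs hp.isCartan where
  long a c ha hc hne h := by
    obtain ⟨a, ha', rfl⟩ := exists_tv hp cs ha
    obtain ⟨c, hc', rfl⟩ := exists_tv hp cs hc
    rw [cpr_tv hp cs c ha'] at h
    exact (lg_iff hp cs hc').2 (pair_tab₁ a ha' c hc' (fun e => hne (e ▸ rfl)) h)
  even a b ha hb h h' := by
    obtain ⟨a, ha', rfl⟩ := exists_tv hp cs ha
    obtain ⟨b, hb', rfl⟩ := exists_tv hp cs hb
    rw [lg_iff hp cs ha'] at h
    rw [lg_iff hp cs hb'] at h'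
    rw [cpr_tv hp cs b ha', Int.even_iff]
    exact pair_tab₂ a ha' b hb' h h'
  pair := by
    have h1 : ((0, 0, 1, 0) : T4) ∈ RL := by decide
    have h2 : ((0, 0, 1, 1) : T4) ∈ RL := by decide
    exact ⟨_, _, (root_iff hp cs _).2 h1, (root_iff hp cs _).2 h2, (lg_iff hp cs h1).2 (by decide),
      (lg_iff hp cs h2).2 (by decide), by rw [cpr_tv hp cs _ h1]; decide⟩
  short := by
    have h1 : ((1, 0, 0, 0) : T4) ∈ RL := by decide
    exact ⟨_, (root_iff hp cs _).2 h1, by rw [lg_iff hp cs h1]; decide⟩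
  add a b ha hb h h' h0 := by
    obtain ⟨a, ha', rfl⟩ := exists_tv hp cs ha
    obtain ⟨b, hb', rfl⟩ := exists_tv hp cs hb
    rw [lg_iff hp cs ha'] at h
    rw [lg_iff hp cs hb'] at h'
    rw [cpr_tv hp cs b ha'] at h0
    rw [← tv_add, root_iff hp]
    exact pair_tab₃ a ha' b hb' h h' h0

end Main

theorem comm_nz (hp : IsType chevF4 4 CoxeterMatrix.F₄) (p : ℕ) [Fact p.Prime] {r s : ℕ} (hr : r < 48) (hs : s < 48)
    (h : NZ (RL.getD r 0) (RL.getD s 0)) {u v : YY chevF4 p} (hu : u ∈ XX chevF4 4 (KK p) (vec chevF4 4 r))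
    (hv : v ∈ XX chevF4 4 (KK p) (vec chevF4 4 s)) : u * v = v * u := by
  have := finite_W hp CoxeterMatrix.F₄.toCoxeterSystem
  have h1 := norm_tab _ (getD_mem r hr)
  have h2 := norm_tab _ (getD_mem s hs)
  obtain ⟨h3, h4⟩ := h
  have e1 := vec_tv hr
  have e2 := vec_tv hs
  generalize RL.getD r 0 = x at *
  generalize RL.getD s 0 = y at *
  refine comm_of_nz hp p (isRoot_vec hp _ hr) (isRoot_vec hp _ hs) (fun e => ?_) (fun _ i j hi hj hz => ?_) hu hv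
  · rw [e1, e2] at e
    have h5 : x = -y := congrArg vt e
    have h6 : ip (-y) y = -ip y y := by simp only [ip, Prod.fst_neg, Prod.snd_neg]; ring
    rw [h5, h6] at h3
    omega
  · rw [e1, e2, ← tv_vt (i • tv x + j • tv y), root_iff hp] at hz
    have h5 := norm_tab _ hz
    have h6 : ip (vt (i • tv x + j • tv y)) (vt (i • tv x + j • tv y)) =
        i * i * ip x x + 2 * (i * j * ip x y) + j * j * ip y y := by
      simp only [ip, vt, tv, Pi.add_apply, Pi.smul_apply, smul_eq_mul]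
      simp
      ring
    have h7 : ip x x ≤ i * i * ip x x := le_mul_of_one_le_left (by omega) (mul_pos hi hi)
    have h8 : ip y y ≤ j * j * ip y y := le_mul_of_one_le_left (by omega) (mul_pos hj hj)
    have h9 : ip x y ≤ i * j * ip x y := le_mul_of_one_le_left h3 (mul_pos hi hj)
    omega

open Cfsg.Agent.H296.FFour in
theorem dc (hp : IsType chevF4 4 CoxeterMatrix.F₄) :
    DC CoxeterMatrix.F₄.toCoxeterSystem hp.isCartan (XX chevF4 4 (KK 2)) := by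
  have := finite_W hp CoxeterMatrix.F₄.toCoxeterSystem
  intro a b ha hb h0 u hu v hv
  obtain ⟨r, hr, rfl⟩ := (isRoot_iff hp _ _).1 ha
  obtain ⟨s, hs, rfl⟩ := (isRoot_iff hp _ _).1 hb
  rw [vec_tv hr, vec_tv hs, cpr_tv hp _ _ (getD_mem r hr)] at h0
  rcases nz_tab r hr s hs h0 with h | h
  · exact comm_nz hp 2 hr hs h hu hv
  · have key : ∀ r < 48, ∀ u ∈ XX chevF4 4 (KK 2) (vec chevF4 4 r), al (KK 2) u ∈ XX chevF4 4 (KK 2) (vec chevF4 4 (br r)) := by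
      intro r hr u hu
      obtain ⟨t, ht⟩ := (LangThm.mem_XX_vec hp hr).1 hu
      have e : u = H79.SimpleGen.xS hp4.inList r t := Subtype.ext ht
      rw [e, al_xS hr]
      exact (LangThm.mem_XX_vec hp (tab r hr).1).2 ⟨_, rfl⟩
    apply (al (KK 2)).injective
    rw [map_mul, map_mul]
    exact comm_nz hp 2 (tab r hr).1 (tab s hs).1 h (key r hr u hu) (key s hs v hv)

end Four

/-! ### `E₆` -/

namespace Six

open Cfsg.Agent.SB.Exc.W

/-- the weights of a module of dimension `27` -/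
def WL : List T6 :=
  [(-1, -1, 1, 0, 0, 0), (-1, 0, 0, 0, 0, 1), (-1, 0, 0, 0, 1, -1), (-1, 0, 0, 1, -1, 0), (-1, 0, 1, 0, 0, 0),
   (-1, 1, 1, -1, 0, 0), (0, -1, -1, 1, 0, 0), (0, -1, 0, 0, 1, 0), (0, -1, 0, 1, -1, 1), (0, -1, 0, 1, 0, -1),
   (0, 0, -1, 1, 0, 0), (0, 0, 0, -1, 1, 0), (0, 0, 0, 0, -1, 1), (0, 0, 0, 0, 0, -1), (0, 0, 1, -1, 0, 1),
   (0, 0, 1, -1, 1, -1), (0, 0, 1, 0, -1, 0), (0, 1, -1, 0, 0, 0), (0, 1, 0, -1, 1, 0), (0, 1, 0, 0, -1, 1),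
   (0, 1, 0, 0, 0, -1), (1, -1, 0, 0, 0, 0), (1, 0, -1, 0, 0, 1), (1, 0, -1, 0, 1, -1), (1, 0, -1, 1, -1, 0),
   (1, 0, 0, 0, 0, 0), (1, 1, 0, -1, 0, 0)]

private noncomputable def _root_.Cfsg.Agent.LsF.f40cd90_9 : {f // @Cfsg.Agent.SB.Exc.W.tv = f} := ⟨_, by first | (delta Cfsg.Agent.SB.Exc.W.tv; rewrite [Cfsg.Agent.LsF.vecCons_eq]; exact rfl) | exact rfl⟩
private noncomputable def _root_.Cfsg.Agent.LsF.f40cd90_10 : {f // @Cfsg.Agent.SB.Exc.W.co = f} := ⟨_, by first | (delta Cfsg.Agent.SB.Exc.W.co; rewrite [Cfsg.Agent.LsF.imul_pat, Cfsg.Agent.LsF.isub_pat]; exact rfl) | exact rfl⟩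
theorem wl_tab : ∀ i : Fin 6, ∀ m ∈ WL, m - tv m i • co (vt (sr i)) ∈ WL := by (refine of_decide_eq_true ?_; (try (rewrite [Cfsg.Agent.LsF.f40cd90_9.2, Cfsg.Agent.LsF.f40cd90_10.2, Cfsg.Agent.LsF.instISub_eq, Cfsg.Agent.LsF.dFinEq_eq, Cfsg.Agent.LsF.dBAll_eq, Cfsg.Agent.LsF.dMem_eq, Cfsg.Agent.LsF.dForallFin_eq, Cfsg.Agent.LsF.decide_eq])); decide +kernel)

/-- the values of the weights -/
def vals (a b c : T6) : List (ℤ × ℤ × ℤ) := WL.map fun m => (dt a m, dt b m, dt c m)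

/-- asymmetry of the weights on `A₂ + A₁` -/
def chk3 : Bool := SL.all fun a => (fl (-1) a RL).all fun b => (fl 0 b (fl 0 a RL)).all fun c =>
  ((vals a b c).contains (1, 0, 1) && !(vals a b c).contains (-1, 0, -1)) ||
    ((vals a b c).contains (0, 1, 1) && !(vals a b c).contains (0, -1, -1))

private noncomputable def _root_.Cfsg.Agent.LsF.f40cd90_11 : {f // @Cfsg.Agent.SB.Exc.W.dt = f} := ⟨_, by first | (delta Cfsg.Agent.SB.Exc.W.dt; rewrite [Cfsg.Agent.LsF.iadd_pat, Cfsg.Agent.LsF.imul_pat]; exact rfl) | exact rfl⟩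
private noncomputable def _root_.Cfsg.Agent.LsF.f40cd90_12 : {f // @Cfsg.Agent.SB.Exc.W.ip = f} := ⟨_, by first | (delta Cfsg.Agent.SB.Exc.W.ip; rewrite [Cfsg.Agent.LsF.f40cd90_11.2, Cfsg.Agent.LsF.f40cd90_10.2]; exact rfl) | exact rfl⟩
private noncomputable def mk (L : List T6) (v : ℤ) (a : T6) : ℕ := List.rec 0 (fun m _ ih => Nat.bit (dt a m == v) ih) L

private theorem mk_spec {a b c : T6} {x y z : ℤ} : ∀ L : List T6,
    (x, y, z) ∈ L.map (fun m => (dt a m, dt b m, dt c m)) ↔ mk L x a &&& mk L y b &&& mk L z c ≠ 0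
  | [] => ⟨fun h => (nomatch h), fun h => absurd (Nat.and_zero _) h⟩
  | m :: L => by
    show _ ↔ Nat.bit (dt a m == x) (mk L x a) &&& Nat.bit (dt b m == y) (mk L y b) &&& Nat.bit (dt c m == z) (mk L z c) ≠ 0
    rw [Nat.land_bit, Nat.land_bit, Ne, Nat.bit_eq_zero_iff, List.map_cons, List.mem_cons, mk_spec L, not_and_or, or_comm]
    refine or_congr Iff.rfl ?_
    rw [Bool.not_eq_false, Bool.and_eq_true, Bool.and_eq_true, beq_iff_eq, beq_iff_eq, beq_iff_eq, Prod.mk.injEq,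
      Prod.mk.injEq, and_assoc, eq_comm (a := x), eq_comm (a := y), eq_comm (a := z)]

private theorem mk_eq (a b c : T6) (x y z : ℤ) : (vals a b c).contains (x, y, z) =
    !Nat.beq (Nat.land (Nat.land (mk WL x a) (mk WL y b)) (mk WL z c)) 0 := by
  rw [Bool.eq_iff_iff, List.contains_iff_mem, Bool.not_eq_true', ← Bool.not_eq_true, Nat.beq_eq]
  exact mk_spec WL

theorem chk3_eq : chk3 = true := by
  delta chk3
  simp only [mk_eq]
  delta mk Cfsg.Agent.SB.Exc.W.fl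
  rewrite [H90F.bz_fun, H90F.al_fun, H90F.fl_fun, Cfsg.Agent.LsF.f40cd90_12.2, Cfsg.Agent.LsF.f40cd90_11.2, Cfsg.Agent.LsF.ineg_pat, Cfsg.Agent.LsF.and_eq, Cfsg.Agent.LsF.or_eq, Cfsg.Agent.LsF.not_eq]
  decide +kernel

/-- orthogonal roots exist -/
def chk4 : Bool := SL.all fun a => !(fl 0 a RL).isEmpty && (fl 0 a RL).all fun b => !(fl 0 b (fl 0 a RL)).isEmpty

private noncomputable def _root_.Cfsg.Agent.LsF.f40cd90_13 : {f // @Cfsg.Agent.SB.Exc.W.fl = f} := ⟨_, by first | (delta Cfsg.Agent.SB.Exc.W.fl; rewrite [Cfsg.Agent.LsF.f40cd90_12.2, Cfsg.Agent.LsF.ibeq_pat, Cfsg.Agent.LsF.filter_eq]; exact rfl) | exact rfl⟩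
private noncomputable def _root_.Cfsg.Agent.LsF.f40cd90_14 : {f // @Cfsg.Agent.SB.Exc.Frm.Six.chk4 = f} := ⟨_, by first | (delta Cfsg.Agent.SB.Exc.Frm.Six.chk4; rewrite [Cfsg.Agent.LsF.f40cd90_13.2, Cfsg.Agent.LsF.and_eq, Cfsg.Agent.LsF.not_eq, Cfsg.Agent.LsF.all_eq, Cfsg.Agent.LsF.isEmpty_eq]; exact rfl) | exact rfl⟩
theorem chk4_eq : chk4 = true := by ((try (rewrite [Cfsg.Agent.LsF.f40cd90_14.2])); decide +kernel)

variable {W : Type*} [Group W] [Finite W] (hp : IsType chevE6 6 CoxeterMatrix.E₆) (cs : CoxeterSystem CoxeterMatrix.E₆ W)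

theorem wl_rep (w : W) : ∀ m ∈ WL, ∃ m' ∈ WL, ∀ x, dt (vt (rep cs hp.isCartan w x)) m = dt (vt x) m' := by
  obtain ⟨ω, rfl⟩ := cs.wordProd_surjective w
  induction ω with
  | nil => exact fun m hm => ⟨m, hm, fun x => by rw [wordProd_nil, map_one]; rfl⟩
  | cons i ω ih =>
    intro m hm
    obtain ⟨m', hm', h⟩ := ih _ (wl_tab i m hm)
    refine ⟨m', hm', fun x => ?_⟩
    rw [wordProd_cons, rep_mul_apply, ← h, rep_simple_eq]
    generalize rep cs hp.isCartan (cs.wordProd ω) x = z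
    simp only [CoxeterGeom.pairing, cartan_eq, Fin.sum_univ_six, dt, vt, tv, co, sr]
    fin_cases i <;> simp <;> ring

theorem inv (w : W) (a b c : Fin 6 → ℤ) (ha : IsRoot cs hp.isCartan a) (hb : IsRoot cs hp.isCartan b)
    (hc : IsRoot cs hp.isCartan c) (hab : cpr cs hp.isCartan a b = -1) (hca : cpr cs hp.isCartan c a = 0)
    (hcb : cpr cs hp.isCartan c b = 0) :
    ¬ (rep cs hp.isCartan w a = -a ∧ rep cs hp.isCartan w b = -b ∧ rep cs hp.isCartan w c = -c) := by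
  rw [cpr_comm hp cs hc ha] at hca
  rw [cpr_comm hp cs hc hb] at hcb
  obtain ⟨v, a, ha', rfl⟩ := exists_sl hp cs ha
  obtain ⟨b, hb', rfl⟩ := exists_tv hp cs v hb
  obtain ⟨c, hc', rfl⟩ := exists_tv hp cs v hc
  rw [cpr_w hp cs v _ hb'] at hab
  rw [cpr_w hp cs v _ hc'] at hca hcb
  rintro ⟨h1, h2, h3⟩
  have key : ∀ x : T6, rep cs hp.isCartan w (rep cs hp.isCartan v (tv x)) = -rep cs hp.isCartan v (tv x) →
      ∀ m m' : T6, (∀ x, dt (vt (rep cs hp.isCartan (v⁻¹ * w * v) x)) m = dt (vt x) m') → dt x m' = -dt x m := by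
    intro x hx m m' h
    have h4 := h (tv x)
    rw [rep_mul_apply, rep_mul_apply, hx, map_neg, rep_inv_apply] at h4
    have h5 : dt (vt (-tv x)) m = -dt x m := by
      simp only [dt, vt, tv, Pi.neg_apply]
      simp
      ring
    exact h4.symm.trans h5
  have h4 : ∀ t ∈ vals a b c, -t ∈ vals a b c := by
    intro t ht
    obtain ⟨m, hm, rfl⟩ := List.mem_map.1 ht
    obtain ⟨m', hm', h⟩ := wl_rep hp cs (v⁻¹ * w * v) m hm
    exact List.mem_map.2 ⟨m', hm', by rw [key a h1 m m' h, key b h2 m m' h, key c h3 m m' h]; rfl⟩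
  have h5 := List.all_eq_true.1 (List.all_eq_true.1 (List.all_eq_true.1 chk3_eq a ha') b (mem_fl.2 ⟨hb', hab⟩)) c
    (mem_fl.2 ⟨mem_fl.2 ⟨hc', hca⟩, hcb⟩)
  simp only [Bool.or_eq_true, Bool.and_eq_true, Bool.not_eq_true', List.contains_eq_mem, decide_eq_true_eq,
    decide_eq_false_iff_not] at h5
  rcases h5 with ⟨h6, h7⟩ | ⟨h6, h7⟩
  · exact h7 (h4 _ h6)
  · exact h7 (h4 _ h6)

theorem one_orth {a : Fin 6 → ℤ} (ha : IsRoot cs hp.isCartan a) :
    ∃ d, IsRoot cs hp.isCartan d ∧ cpr cs hp.isCartan a d = 0 := by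
  obtain ⟨w, a, ha', rfl⟩ := exists_sl hp cs ha
  have h1 := List.all_eq_true.1 chk4_eq a ha'
  rw [Bool.and_eq_true, Bool.not_eq_true', List.isEmpty_eq_false_iff_exists_mem] at h1
  obtain ⟨d, hd⟩ := h1.1
  rw [mem_fl] at hd
  exact ⟨_, root_w hp cs w hd.1, by rw [cpr_w hp cs w _ hd.1, hd.2]⟩

theorem two_orth {a b : Fin 6 → ℤ} (ha : IsRoot cs hp.isCartan a) (hb : IsRoot cs hp.isCartan b)
    (hab : cpr cs hp.isCartan a b = 0) :
    ∃ d, IsRoot cs hp.isCartan d ∧ cpr cs hp.isCartan a d = 0 ∧ cpr cs hp.isCartan b d = 0 := by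
  obtain ⟨w, a, ha', rfl⟩ := exists_sl hp cs ha
  obtain ⟨b, hb', rfl⟩ := exists_tv hp cs w hb
  rw [cpr_w hp cs w _ hb'] at hab
  have h1 := List.all_eq_true.1 chk4_eq a ha'
  rw [Bool.and_eq_true] at h1
  have h2 := List.all_eq_true.1 h1.2 b (mem_fl.2 ⟨hb', hab⟩)
  rw [Bool.not_eq_true', List.isEmpty_eq_false_iff_exists_mem] at h2
  obtain ⟨d, hd⟩ := h2
  simp only [mem_fl] at hd
  exact ⟨_, root_w hp cs w hd.1.1, by rw [cpr_w hp cs w _ hd.1.1, hd.1.2], by rw [cpr_w hp cs w _ hd.1.1, hd.2]⟩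

theorem exists_fun (a b c d : Fin 6 → ℤ) :
    ∃ f : (Fin 6 → ℤ) →+ ℤ, f ≠ 0 ∧ f a = 0 ∧ f b = 0 ∧ f c = 0 ∧ f d = 0 := by
  by_contra hcon
  have h1 : Function.Injective (Matrix.mulVecLin (Matrix.of ![a, b, c, d])) := by
    rw [injective_iff_map_eq_zero]
    intro m hm
    by_contra h0
    refine hcon ⟨AddMonoidHom.mk' (fun x => x ⬝ᵥ m) fun x y => add_dotProduct x y m, fun h => h0 ?_, congrFun hm 0,
      congrFun hm 1, congrFun hm 2, congrFun hm 3⟩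
    exact dotProduct_self_eq_zero.1 (DFunLike.congr_fun h m)
  have h2 := LinearMap.finrank_le_finrank_of_injective h1
  simp at h2

theorem e6c : E6C cs hp.isCartan where
  symm _ _ ha hb := cpr_comm hp cs ha hb
  orth P hr hn ho hP := by
    have hne : ∀ {r a b : Fin 6 → ℤ}, IsRoot cs hp.isCartan r → a ∈ P → b ∈ P → cpr cs hp.isCartan a r = 0 →
        cpr cs hp.isCartan r b ≠ 0 → cpr cs hp.isCartan a b = 0 := by
      intro r a b h1 ha hb h2 h3
      rw [cpr_comm hp cs (hr a ha) h1] at h2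
      rcases ho a ha b hb with e | e | e
      · exact absurd (e ▸ h2) h3
      · exact absurd (by rw [e, cpr_neg_right _ _ _ (hr a ha), h2, neg_zero]) h3
      · rwa [cpr_comm hp cs (hr a ha) (hr b hb)]
    obtain ⟨a, ha, -⟩ := hP _ (isRoot_sr cs hp.isCartan 0)
    obtain ⟨r₁, q₁, a₁⟩ := one_orth hp cs (hr a ha)
    obtain ⟨b, hb, b₁⟩ := hP _ q₁
    have hab := hne q₁ ha hb a₁ b₁
    obtain ⟨r₂, q₂, a₂, b₂⟩ := two_orth hp cs (hr a ha) (hr b hb) hab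
    obtain ⟨c, hc, c₂⟩ := hP _ q₂
    have hac := hne q₂ ha hc a₂ c₂
    have hbc := hne q₂ hb hc b₂ c₂
    obtain ⟨r₃, q₃, a₃, b₃, c₃⟩ := three_orth hp cs (hr a ha) (hr b hb) (hr c hc) hab hac hbc
    obtain ⟨d, hd, d₃⟩ := hP _ q₃
    have had := hne q₃ ha hd a₃ d₃
    have hbd := hne q₃ hb hd b₃ d₃
    have hcd := hne q₃ hc hd c₃ d₃
    have s := fun {x y} (hx : x ∈ P) (hy : y ∈ P) => cpr_comm hp cs (hr x hx) (hr y hy)
    have ne : ∀ {x y}, x ∈ P → cpr cs hp.isCartan x y = 0 → x ≠ y := by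
      rintro x _ hx h rfl
      rw [cpr_self _ _ (hr x hx)] at h
      omega
    constructor
    · obtain ⟨f, f0, fa, fb, fc, fd⟩ := exists_fun a b c d
      refine ⟨f, f0, fun e he => ?_⟩
      by_contra h0
      have key : ∀ x ∈ P, f x = 0 → cpr cs hp.isCartan x e = 0 := by
        intro x hx fx
        rcases ho x hx e he with h | h | h
        · exact absurd (h ▸ fx) h0
        · exact absurd (by rw [h, map_neg, fx, neg_zero]) h0
        · rwa [s hx he]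
      exact five_orth hp cs (hr a ha) (hr b hb) (hr c hc) (hr d hd) (hr e he) hab hac had (key a ha fa) hbc hbd
        (key b hb fb) hcd (key c hc fc) (key d hd fd)
    · obtain ⟨r, q, e⟩ := four_orth hp cs (hr a ha) (hr b hb) (hr c hc) (hr d hd) hab hac had hbc hbd hcd
      have key : ∀ x ∈ P, cpr cs hp.isCartan x r + cpr cs hp.isCartan x r = cpr cs hp.isCartan a x +
          cpr cs hp.isCartan b x + cpr cs hp.isCartan c x + cpr cs hp.isCartan d x := by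
        intro x hx
        rw [cpr_comm hp cs (hr x hx) q, ← cpr_add _ _ _ _ (hr x hx), e, cpr_add _ _ _ _ (hr x hx),
          cpr_add _ _ _ _ (hr x hx), cpr_add _ _ _ _ (hr x hx)]
      have k1 := key a ha
      have k2 := key b hb
      have k3 := key c hc
      rw [cpr_self _ _ (hr a ha), s hb ha, s hc ha, s hd ha, hab, hac, had] at k1
      rw [cpr_self _ _ (hr b hb), s hc hb, s hd hb, hab, hbc, hbd] at k2
      rw [cpr_self _ _ (hr c hc), s hd hc, hac, hbc, hcd] at k3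
      exact ⟨a, ha, b, hb, c, hc, d, hd, r, q, by rw [two_smul, e], by omega, by omega, by omega, ne ha hab, ne ha hac,
        ne hb hbc⟩
  perp a b ha hb hab := by
    obtain ⟨a₁, b₁, a₂, b₂, h⟩ := a2_triple hp cs ha hb hab
    exact ⟨b₁, a₁, h.rb₁, h.ra₁, h.a₁b₁, (cpr_comm hp cs h.rb₁ ha).trans h.ab₁, (cpr_comm hp cs h.rb₁ hb).trans h.bb₁,
      (cpr_comm hp cs h.ra₁ ha).trans h.aa₁, (cpr_comm hp cs h.ra₁ hb).trans h.ba₁⟩
  inv := inv hp cs

end Six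

/-- **[MC]** -/
theorem boxMC : BoxMC where
  dc D l M hp hD p _ h2 := by
    rcases hD with rfl | rfl | rfl | rfl
    · obtain ⟨rfl, e⟩ := Sigma.mk.inj_iff.1 (type_of hp hpF4 (Or.inl rfl))
      obtain rfl := eq_of_heq e
      obtain rfl := h2 rfl
      exact Four.dc hp
    · obtain ⟨rfl, e⟩ := Sigma.mk.inj_iff.1 (type_of hp hpE6 (Or.inr (Or.inl rfl)))
      obtain rfl := eq_of_heq e
      exact dc_sl hp p W.ne4 W.ne6
    · obtain ⟨rfl, e⟩ := Sigma.mk.inj_iff.1 (type_of hp hpE7 (Or.inr (Or.inr (Or.inl rfl))))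
      obtain rfl := eq_of_heq e
      exact dc_sl hp p ne4_E7 ne6_E7
    · obtain ⟨rfl, e⟩ := Sigma.mk.inj_iff.1 (type_of hp hpE8 (Or.inr (Or.inr (Or.inr rfl))))
      obtain rfl := eq_of_heq e
      exact dc_sl hp p ne4_E8 ne6_E8
  ir D l M hp hD := by
    rcases hD with rfl | rfl | rfl | rfl
    · exact ir_of hp n3_F4
    · exact ir_of hp n3_E6
    · exact ir_of hp n3_E7
    · exact ir_of hp n3_E8
  f4 l M hp := by
    obtain ⟨rfl, e⟩ := Sigma.mk.inj_iff.1 (type_of hp hpF4 (Or.inl rfl))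
    obtain rfl := eq_of_heq e
    have := finite_W hp CoxeterMatrix.F₄.toCoxeterSystem
    exact Four.f4c hp _
  e6 l M hp := by
    obtain ⟨rfl, e⟩ := Sigma.mk.inj_iff.1 (type_of hp hpE6 (Or.inr (Or.inl rfl)))
    obtain rfl := eq_of_heq e
    have := finite_W hp CoxeterMatrix.E₆.toCoxeterSystem
    exact Six.e6c hp _

end Cfsg.Agent.SB.Exc.Frm

private theorem dce_f160fb97c94c : _root_.True := by
  try have : _root_.True := by simp only [_root_.Cfsg.Agent.SB.Exc.Frm.Four.ip.eq_1]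
  try have : _root_.True := by simp only [_root_.Cfsg.Agent.SB.Exc.Frm.Four.tv.eq_1]
  try have : _root_.True := by simp only [_root_.Cfsg.Agent.SB.Exc.W.vt.eq_1]
  try have : _root_.True := by simp only [_root_.Cfsg.Agent.SB.Exc.Frm.Four.bf.eq_1]
  try have : _root_.True := by simp only [_root_.Cfsg.Agent.SB.Exc.Frm.Four.vt.eq_1]
  try have : _root_.True := by simp only [_root_.Cfsg.Agent.SB.Exc.Frm.Four.cp.eq_1]
  exact _root_.True.intro
end
end
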